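import Mathlib
set_option linter.all false

/-!
# Minimal covers

`IsMin π`: `π : G →* X` is onto and no proper subgroup of `G` maps onto `X`. For `G` finite and `X` nonabelian simple:
`G` is perfect, every normal subgroup is `⊤` or in the kernel, Sylow subgroups of a normal subgroup inside the kernel are
normal in `G`, and the index of a proper subgroup of `G` is at least the least index of a proper subgroup of `X`.
If every abelian normal subgroup of `G` is central and the kernel is not, there is a normal subgroup `N` in the kernel,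
not central, with `N ∩ Z(G) = Z(N)` and `N/Z(N)` elementary abelian (`exists_special`).
-/

set_option autoImplicit false

namespace Cfsg.Agent.H189.MinCov

open scoped commutatorElement

universe u v

variable {G : Type u} {X : Type v} [Group G] [Group X]

/-- no proper subgroup of `G` maps onto `X` -/
def IsMin (π : G →* X) : Prop :=
  Function.Surjective π ∧ ∀ M : Subgroup G, M.map π = ⊤ → M = ⊤

theorem exists_min [Finite G] (π : G →* X) (hπ : Function.Surjective π) :
    ∃ H : Subgroup G, IsMin (π.comp H.subtype) := by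
  have hne : ({H : Subgroup G | H.map π = ⊤}).Nonempty :=
    ⟨⊤, by
      change (⊤ : Subgroup G).map π = ⊤
      rw [← MonoidHom.range_eq_map]
      exact MonoidHom.range_eq_top.2 hπ⟩
  obtain ⟨H, hH⟩ := (Set.toFinite {H : Subgroup G | H.map π = ⊤}).exists_minimal hne
  refine ⟨H, ?_, ?_⟩
  · rw [← MonoidHom.range_eq_top, MonoidHom.range_comp, Subgroup.range_subtype]
    exact hH.1
  · intro M hM
    have h1 : (M.map H.subtype).map π = ⊤ := by rw [Subgroup.map_map]; exact hM
    have h2 : M.map H.subtype ≤ H := Subgroup.map_subtype_le M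
    have h3 : H ≤ M.map H.subtype := hH.2 h1 h2
    rw [eq_top_iff]
    intro x _
    obtain ⟨y, hy, hyx⟩ := h3 x.2
    have h4 : y = x := Subtype.ext hyx
    rwa [← h4]

theorem IsMin.quotient {π : G →* X} (h : IsMin π) (N : Subgroup G) [N.Normal] (hN : N ≤ π.ker) :
    IsMin (QuotientGroup.lift N π (fun _ hx => hN hx)) := by
  refine ⟨?_, ?_⟩
  · intro x
    obtain ⟨g, hg⟩ := h.1 x
    exact ⟨(g : G ⧸ N), hg⟩
  · intro M hM
    have h1 : M.comap (QuotientGroup.mk' N) = ⊤ := by
      apply h.2
      rw [eq_top_iff]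
      intro x _
      obtain ⟨m, hm, hmx⟩ : x ∈ M.map (QuotientGroup.lift N π (fun _ hx => hN hx)) := by rw [hM]; trivial
      obtain ⟨g, rfl⟩ := QuotientGroup.mk'_surjective N m
      exact ⟨g, hm, hmx⟩
    rw [eq_top_iff]
    intro m _
    obtain ⟨g, rfl⟩ := QuotientGroup.mk'_surjective N m
    have h2 : g ∈ M.comap (QuotientGroup.mk' N) := by rw [h1]; trivial
    exact h2

theorem IsMin.normal [IsSimpleGroup X] {π : G →* X} (h : IsMin π) (N : Subgroup G) [hN : N.Normal] :
    N = ⊤ ∨ N ≤ π.ker := by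
  have h0 : (N.map π).Normal := hN.map π h.1
  rcases h0.eq_bot_or_eq_top with h1 | h1
  · right
    exact (Subgroup.map_eq_bot_iff N).1 h1
  · left
    exact h.2 N h1

theorem IsMin.perfect [IsSimpleGroup X] {π : G →* X} (h : IsMin π) (hX : ∃ a b : X, a * b ≠ b * a) :
    commutator G = ⊤ := by
  rcases h.normal (commutator G) with h1 | h1
  · exact h1
  · exfalso
    obtain ⟨a, b, hab⟩ := hX
    obtain ⟨a, rfl⟩ := h.1 a
    obtain ⟨b, rfl⟩ := h.1 b
    apply hab
    have h2 := h1 (Subgroup.commutator_mem_commutator (Subgroup.mem_top a) (Subgroup.mem_top b))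
    rw [MonoidHom.mem_ker, map_commutatorElement, commutatorElement_eq_one_iff_mul_comm] at h2
    exact h2

theorem IsMin.le_index [Finite G] {π : G →* X} (h : IsMin π) {r : ℕ}
    (hX : ∀ N : Subgroup X, N ≠ ⊤ → r ≤ N.index) (M : Subgroup G) (hM : M ≠ ⊤) : r ≤ M.index := by
  have h1 : M.map π ≠ ⊤ := fun h2 => hM (h.2 M h2)
  exact (hX _ h1).trans (Nat.le_of_dvd (Nat.pos_of_ne_zero M.index_ne_zero_of_finite) (M.index_map_dvd h.1))

theorem IsMin.sylow_normal [Finite G] {π : G →* X} (h : IsMin π) (N : Subgroup G) [N.Normal] (hN : N ≤ π.ker)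
    {q : ℕ} [Fact q.Prime] (P : Sylow q N) : ((P : Subgroup N).map N.subtype).Normal := by
  have h1 := P.normalizer_sup_eq_top
  have h2 : (Subgroup.normalizer ((P : Subgroup N).map N.subtype : Set G)).map π = ⊤ := by
    have h3 := congrArg (Subgroup.map π) h1
    rw [Subgroup.map_sup, (Subgroup.map_eq_bot_iff N).2 hN, sup_bot_eq] at h3
    rw [h3, ← MonoidHom.range_eq_map]
    exact MonoidHom.range_eq_top.2 h.1
  exact Subgroup.normalizer_eq_top_iff.1 (h.2 _ h2)

/-- a group all of whose Sylow subgroups lie in the subgroup `Z` is `Z` -/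
theorem eq_top_of_sylow {N : Type u} [Group N] [Finite N] (Z : Subgroup N)
    (h : ∀ (q : ℕ) [Fact q.Prime] (P : Sylow q N), (P : Subgroup N) ≤ Z) : Z = ⊤ := by
  rw [← Subgroup.index_eq_one]
  by_contra h1
  obtain ⟨q, hq, hqd⟩ := Nat.exists_prime_and_dvd h1
  have : Fact q.Prime := ⟨hq⟩
  obtain ⟨P⟩ : Nonempty (Sylow q N) := inferInstance
  exact P.not_dvd_index (hqd.trans (Subgroup.index_dvd_of_le (h q P)))

theorem comm_mul_left {a b x : G} (h : ⁅b, x⁆ ∈ Subgroup.center G) : ⁅a * b, x⁆ = ⁅a, x⁆ * ⁅b, x⁆ := by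
  have h1 := Subgroup.mem_center_iff.1 h a
  have h2 := Subgroup.mem_center_iff.1 h ⁅a, x⁆
  have h3 : ⁅a * b, x⁆ = a * ⁅b, x⁆ * (x * a⁻¹ * x⁻¹) := by
    rw [commutatorElement_def, commutatorElement_def]
    group
  have h4 : ⁅a, x⁆ = a * (x * a⁻¹ * x⁻¹) := by
    rw [commutatorElement_def]
    group
  rw [h3, h1, h2, h4, mul_assoc]

/-- a perfect group centralizes `N` if it acts trivially on `N` modulo the centre -/
theorem le_center_of_comm (hG : commutator G = ⊤) (N : Subgroup G)
    (h : ∀ g : G, ∀ x ∈ N, ⁅g, x⁆ ∈ Subgroup.center G) : N ≤ Subgroup.center G := by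
  intro x hx
  let φ : G →* Subgroup.center G :=
    { toFun := fun g => ⟨⁅g, x⁆, h g x hx⟩
      map_one' := by
        apply Subtype.ext
        change ⁅(1 : G), x⁆ = 1
        rw [commutatorElement_def]
        group
      map_mul' := fun a b => Subtype.ext (comm_mul_left (h b x hx)) }
  rw [Subgroup.mem_center_iff]
  intro g
  have h1 : commutator G ≤ φ.ker := by
    rw [commutator_def, Subgroup.commutator_le]
    intro a _ b _
    rw [MonoidHom.mem_ker, map_commutatorElement, commutatorElement_eq_one_iff_mul_comm]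
    exact Subtype.ext (Subgroup.mem_center_iff.1 (φ b).2 (φ a : G))
  have h2 : φ g = 1 := by
    rw [hG] at h1
    exact MonoidHom.mem_ker.1 (h1 (Subgroup.mem_top g))
  have h3 : ⁅g, x⁆ = 1 := congrArg Subtype.val h2
  exact commutatorElement_eq_one_iff_mul_comm.1 h3

/-- **the special normal subgroup** -/
theorem exists_special [Finite G] [IsSimpleGroup X] {π : G →* X} (h : IsMin π)
    (hA : ∀ A : Subgroup G, A.Normal → (∀ a ∈ A, ∀ b ∈ A, a * b = b * a) → A ≤ Subgroup.center G)
    (hK : ¬ π.ker ≤ Subgroup.center G) :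
    ∃ (N : Subgroup G) (q : ℕ), N.Normal ∧ q.Prime ∧ ¬ N ≤ Subgroup.center G ∧
      (∀ x ∈ N, ∀ y ∈ N, ⁅x, y⁆ ∈ Subgroup.center G) ∧ (∀ x ∈ N, x ^ q ∈ Subgroup.center G) ∧
      (∀ x ∈ N, (∀ y ∈ N, x * y = y * x) → x ∈ Subgroup.center G) := by
  classical
  obtain ⟨N, hN⟩ := (Set.toFinite {N : Subgroup G | N.Normal ∧ N ≤ π.ker ∧ ¬ N ≤ Subgroup.center G}).exists_minimal
    ⟨π.ker, inferInstance, le_refl _, hK⟩
  obtain ⟨⟨hNn, hNk, hNc⟩, hmin⟩ := hN
  have hmin' : ∀ M : Subgroup G, M.Normal → M ≤ N → M ≠ N → M ≤ Subgroup.center G := by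
    intro M hM hMN hne
    by_contra hc
    exact hne (le_antisymm hMN (hmin ⟨hM, hMN.trans hNk, hc⟩ hMN))
  -- a Sylow subgroup is everything
  obtain ⟨q, hq, P, hP⟩ : ∃ (q : ℕ) (_ : Fact q.Prime) (P : Sylow q N), (P : Subgroup N).map N.subtype = N := by
    by_contra hne
    push Not at hne
    apply hNc
    have h1 : (Subgroup.center G).subgroupOf N = ⊤ := by
      apply eq_top_of_sylow
      intro q hq P
      have h2 := hmin' _ (h.sylow_normal N hNk P) (Subgroup.map_subtype_le _) (hne q hq P)
      intro x hx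
      exact h2 (Subgroup.mem_map_of_mem _ hx)
    rwa [Subgroup.subgroupOf_eq_top] at h1
  have hPtop : (P : Subgroup N) = ⊤ := by
    rw [eq_top_iff]
    intro x _
    have h1 : (x : G) ∈ (P : Subgroup N).map N.subtype := by rw [hP]; exact x.2
    obtain ⟨y, hy, hyx⟩ := h1
    have h2 : y = x := Subtype.ext hyx
    rwa [← h2]
  have hpg : IsPGroup q N := by
    have h1 := P.isPGroup'
    rw [hPtop] at h1
    exact h1.of_equiv Subgroup.topEquiv
  have hZN : ∀ x ∈ N, (∀ y ∈ N, x * y = y * x) → x ∈ Subgroup.center G := by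
    -- the centre of `N`
    let Z : Subgroup G := N ⊓ Subgroup.centralizer (N : Set G)
    have hZn : Z.Normal := by
      have h1 : (Subgroup.centralizer (N : Set G)).Normal := inferInstance
      exact inferInstance
    have h2 : Z ≤ Subgroup.center G := by
      apply hA Z hZn
      intro a ha b hb
      exact (Subgroup.mem_centralizer_iff.1 hb.2 a ha.1)
    intro x hx hxy
    apply h2
    refine ⟨hx, ?_⟩
    change x ∈ Subgroup.centralizer (N : Set G)
    rw [Subgroup.mem_centralizer_iff]
    intro y hy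
    exact (hxy y hy).symm
  -- the derived group is central
  have hder : ∀ x ∈ N, ∀ y ∈ N, ⁅x, y⁆ ∈ Subgroup.center G := by
    have h1 : ⁅N, N⁆ ≠ N := by
      intro h2
      -- a perfect nilpotent group
      have h3 : Group.IsNilpotent N := hpg.isNilpotent
      have h4 : Group.IsSolvable N := inferInstance
      have h5 : commutator N = ⊤ := by
        rw [eq_top_iff]
        intro x _
        have h6 : (x : G) ∈ (commutator N).map N.subtype := by
          rw [commutator_def, Subgroup.map_commutator, ← MonoidHom.range_eq_map, Subgroup.range_subtype, h2]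
          exact x.2
        obtain ⟨y, hy, hyx⟩ := h6
        have h7 : y = x := Subtype.ext hyx
        rwa [← h7]
      have h6 : Subsingleton N := by
        by_contra h7
        rw [not_subsingleton_iff_nontrivial] at h7
        exact (Group.IsSolvable.commutator_lt_top_of_nontrivial N).ne h5
      apply hNc
      intro x hx
      have h7 : (⟨x, hx⟩ : N) = 1 := Subsingleton.elim _ _
      have h8 : x = 1 := congrArg Subtype.val h7
      rw [h8]
      exact one_mem _
    have h2 := hmin' ⁅N, N⁆ inferInstance (Subgroup.commutator_le_left N N) h1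
    intro x hx y hy
    exact h2 (Subgroup.commutator_mem_commutator hx hy)
  -- the elements whose `q`-th power is central
  have hD : ∀ x ∈ N, ∀ y ∈ N, ∀ n : ℕ, ∃ c ∈ Subgroup.center G, (x * y) ^ n = c * (x ^ n * y ^ n) := by
    intro x hx y hy n
    induction n with
    | zero => exact ⟨1, one_mem _, by simp⟩
    | succ n ih =>
      obtain ⟨c, hc, hcn⟩ := ih
      -- (xy)^{n+1} = c x^n y^n x y = c x^n [y^n, x] x y^n y
      refine ⟨c * ⁅y ^ n, x⁆, mul_mem hc (hder _ (pow_mem hy n) _ hx), ?_⟩
      have h1 := Subgroup.mem_center_iff.1 (hder _ (pow_mem hy n) _ hx) (x ^ n)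
      rw [pow_succ, hcn]
      calc c * (x ^ n * y ^ n) * (x * y) = c * (x ^ n * ⁅y ^ n, x⁆) * (x * y ^ n * y) := by
            rw [commutatorElement_def]; group
        _ = c * ⁅y ^ n, x⁆ * (x ^ (n + 1) * y ^ (n + 1)) := by
            rw [h1, pow_succ, pow_succ]
            simp only [mul_assoc]
  let D : Subgroup G :=
    { carrier := {x | x ∈ N ∧ x ^ q ∈ Subgroup.center G}
      one_mem' := ⟨one_mem _, by rw [one_pow]; exact one_mem _⟩
      mul_mem' := by
        rintro x y ⟨hx, hx'⟩ ⟨hy, hy'⟩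
        refine ⟨mul_mem hx hy, ?_⟩
        obtain ⟨c, hc, hcn⟩ := hD x hx y hy q
        rw [hcn]
        exact mul_mem hc (mul_mem hx' hy')
      inv_mem' := by
        rintro x ⟨hx, hx'⟩
        refine ⟨inv_mem hx, ?_⟩
        rw [inv_pow]
        exact inv_mem hx' }
  have hDn : D.Normal := by
    constructor
    rintro x ⟨hx, hx'⟩ g
    refine ⟨hNn.conj_mem x hx g, ?_⟩
    rw [conj_pow]
    exact (inferInstance : (Subgroup.center G).Normal).conj_mem _ hx' g
  have hDN : D = N := by
    by_contra hne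
    have h1 := hmin' D hDn (fun x hx => hx.1) hne
    -- an element of `N` outside the centre whose `q`-th power is central
    obtain ⟨x, hxN, hxc⟩ : ∃ x ∈ N, x ∉ Subgroup.center G := by
      by_contra h2
      push Not at h2
      exact hNc h2
    obtain ⟨n, hn⟩ := hpg ⟨x, hxN⟩
    have hn' : x ^ q ^ n = 1 := congrArg Subtype.val hn
    have h3 : ∃ m, x ^ q ^ m ∈ Subgroup.center G := ⟨n, by rw [hn']; exact one_mem _⟩
    obtain ⟨m, hm, hmin2⟩ : ∃ m, x ^ q ^ m ∈ Subgroup.center G ∧ ∀ j < m, x ^ q ^ j ∉ Subgroup.center G :=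
      ⟨Nat.find h3, Nat.find_spec h3, fun j hj => Nat.find_min h3 hj⟩
    have hm0 : m ≠ 0 := by
      rintro rfl
      apply hxc
      simpa using hm
    obtain ⟨m, rfl⟩ := Nat.exists_eq_succ_of_ne_zero hm0
    apply hmin2 m (Nat.lt_succ_self m)
    apply h1
    refine ⟨pow_mem hxN _, ?_⟩
    rw [← pow_mul, ← pow_succ]
    exact hm
  refine ⟨N, q, hNn, hq.out, hNc, hder, ?_, hZN⟩
  intro x hx
  have h1 : x ∈ D := by rw [hDN]; exact hx
  exact h1.2

end Cfsg.Agent.H189.MinCov
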