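import Cfsg.Agent.H189.Eig
import Cfsg.Agent.H189.MinCov
set_option linter.all false

/-!
# Representation lemmas for the Feit-Tits theorem

* `Irr`, `exists_irr`: a nontrivial representation of a perfect group has a nontrivial irreducible subquotient.
* `scalar_of_abelian`: an abelian normal subgroup of a group without subgroups of index `≤ n` acts by scalars on an
  irreducible module of dimension `n`.
* `card_quot_le`: `|N / Z| ≤ n ^ 2`.
-/

set_option autoImplicit false

namespace Cfsg.Agent.H189.FTRep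

open Module Wt Eig
open scoped commutatorElement

universe u v w

variable {k : Type u} {V : Type v} {G : Type w} [Field k] [AddCommGroup V] [Module k V] [Group G]

/-- irreducible -/
def Irr (ρ : G →* End k V) : Prop :=
  Nontrivial V ∧ ∀ U : Submodule k V, (∀ g, ∀ v ∈ U, ρ g v ∈ U) → U = ⊥ ∨ U = ⊤

/-- a perfect group acting trivially on a subspace and on the quotient acts trivially -/
theorem trivial_of (hG : commutator G = ⊤) (ρ : G →* End k V) (U : Submodule k V)
    (h1 : ∀ g, ∀ v ∈ U, ρ g v = v) (h2 : ∀ g v, ρ g v - v ∈ U) (g : G) : ρ g = 1 := by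
  let φ : G →* Multiplicative (End k V) :=
    { toFun := fun g => Multiplicative.ofAdd (ρ g - 1)
      map_one' := by rw [map_one, sub_self]; rfl
      map_mul' := fun a b => by
        rw [← ofAdd_add]
        congr 1
        ext v
        have h3 := h1 a _ (h2 b v)
        rw [map_sub] at h3
        have h4 : ρ a (ρ b v) = ρ b v - v + ρ a v := by rw [← h3]; abel
        rw [LinearMap.sub_apply, LinearMap.add_apply, LinearMap.sub_apply, LinearMap.sub_apply, mul_apply', h4]
        simp only [End.one_apply]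
        abel }
  have h3 : commutator G ≤ φ.ker := by
    rw [commutator_def, Subgroup.commutator_le]
    intro a _ b _
    rw [MonoidHom.mem_ker, map_commutatorElement, commutatorElement_eq_one_iff_mul_comm, mul_comm]
  have h4 : φ g = 1 := by
    rw [hG] at h3
    exact MonoidHom.mem_ker.1 (h3 (Subgroup.mem_top g))
  have h5 : ρ g - 1 = 0 := Multiplicative.ofAdd.injective h4
  exact sub_eq_zero.1 h5

theorem exists_irr_aux (hG : commutator G = ⊤) : ∀ (n : ℕ) (V : Type v) [AddCommGroup V] [Module k V]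
    [FiniteDimensional k V] (ρ : G →* End k V), (∃ g, ρ g ≠ 1) → finrank k V ≤ n →
    ∃ (W : Type v) (_ : AddCommGroup W) (_ : Module k W) (_ : FiniteDimensional k W) (σ : G →* End k W),
      Irr σ ∧ (∃ g, σ g ≠ 1) ∧ finrank k W ≤ finrank k V := by
  intro n
  induction n with
  | zero =>
    intro V _ _ _ ρ hne h0
    exfalso
    obtain ⟨g, hg⟩ := hne
    apply hg
    have h1 : Subsingleton V := finrank_zero_iff.1 (Nat.le_zero.1 h0)
    ext v
    exact Subsingleton.elim _ _
  | succ n ih =>
    intro V _ _ _ ρ hne hn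
    by_cases hirr : Irr ρ
    · exact ⟨V, inferInstance, inferInstance, inferInstance, ρ, hirr, hne, le_refl _⟩
    have hnt : Nontrivial V := by
      by_contra h
      rw [not_nontrivial_iff_subsingleton] at h
      obtain ⟨g, hg⟩ := hne
      apply hg
      ext v
      exact Subsingleton.elim _ _
    obtain ⟨U, hU, hb, ht⟩ : ∃ U : Submodule k V, (∀ g, ∀ v ∈ U, ρ g v ∈ U) ∧ U ≠ ⊥ ∧ U ≠ ⊤ := by
      by_contra h
      push Not at h
      apply hirr
      refine ⟨hnt, ?_⟩
      intro U hU
      by_cases hb : U = ⊥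
      · exact Or.inl hb
      · exact Or.inr (h U hU hb)
    by_cases h1 : ∃ g, subrep ρ U hU g ≠ 1
    · have h2 : finrank k U < finrank k V := Submodule.finrank_lt ht
      obtain ⟨W, i1, i2, i3, σ, hσ, hσn, hσd⟩ := ih U (subrep ρ U hU) h1 (by omega)
      exact ⟨W, i1, i2, i3, σ, hσ, hσn, by omega⟩
    · by_cases h2 : ∃ g, quotrep ρ U hU g ≠ 1
      · have h3 : finrank k (V ⧸ U) + finrank k U = finrank k V := Submodule.finrank_quotient_add_finrank U
        have h4 : 0 < finrank k U := by
          rw [finrank_pos_iff]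
          exact (Submodule.nontrivial_iff_ne_bot).2 hb
        obtain ⟨W, i1, i2, i3, σ, hσ, hσn, hσd⟩ := ih (V ⧸ U) (quotrep ρ U hU) h2 (by omega)
        exact ⟨W, i1, i2, i3, σ, hσ, hσn, by omega⟩
      · exfalso
        push Not at h1 h2
        obtain ⟨g, hg⟩ := hne
        apply hg
        refine trivial_of hG ρ U ?_ ?_ g
        · intro g v hv
          have h3 := LinearMap.congr_fun (h1 g) ⟨v, hv⟩
          exact congrArg Subtype.val h3
        · intro g v
          have h3 := LinearMap.congr_fun (h2 g) (Submodule.Quotient.mk v)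
          rw [quotrep_mk, End.one_apply] at h3
          exact (Submodule.Quotient.eq U).1 h3

/-- **a nontrivial irreducible subquotient** -/
theorem exists_irr [FiniteDimensional k V] (hG : commutator G = ⊤) (ρ : G →* End k V) (h : ∃ g, ρ g ≠ 1) :
    ∃ (W : Type v) (_ : AddCommGroup W) (_ : Module k W) (_ : FiniteDimensional k W) (σ : G →* End k W),
      Irr σ ∧ (∃ g, σ g ≠ 1) ∧ finrank k W ≤ finrank k V :=
  exists_irr_aux hG _ V ρ h (le_refl _)

/-- a joint eigenvector of a commuting family -/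
theorem exists_joint_eig [IsAlgClosed k] [FiniteDimensional k V] [Nontrivial V] {ι : Type*} (f : ι → End k V)
    (hf : ∀ i j v, f i (f j v) = f j (f i v)) : ∃ v : V, v ≠ 0 ∧ ∃ χ : ι → k, ∀ i, f i v = χ i • v := by
  obtain ⟨U, hU⟩ := (wellFounded_lt (α := Submodule k V)).has_min
    {U : Submodule k V | U ≠ ⊥ ∧ ∀ i, ∀ v ∈ U, f i v ∈ U} ⟨⊤, top_ne_bot, fun _ _ _ => trivial⟩
  obtain ⟨⟨hU0, hUi⟩, hmin⟩ := hU
  have h1 : ∀ i, ∃ c : k, ∀ v ∈ U, f i v = c • v := by
    intro i
    obtain ⟨w, hw, hw0, c, hc⟩ := exists_eig (f i) U (hUi i) hU0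
    refine ⟨c, ?_⟩
    let U' : Submodule k V := U ⊓ LinearMap.ker (f i - c • (1 : End k V))
    have hU'0 : U' ≠ ⊥ := by
      intro h
      apply hw0
      have : w ∈ U' := ⟨hw, by
        change (f i - c • (1 : End k V)) w = 0
        rw [LinearMap.sub_apply, LinearMap.smul_apply, End.one_apply, hc, sub_self]⟩
      rwa [h, Submodule.mem_bot] at this
    have hmem : ∀ v, v ∈ U' ↔ v ∈ U ∧ f i v = c • v := by
      intro v
      rw [Submodule.mem_inf, LinearMap.mem_ker, LinearMap.sub_apply, LinearMap.smul_apply, End.one_apply, sub_eq_zero]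
    have hU'i : ∀ j, ∀ v ∈ U', f j v ∈ U' := by
      intro j v hv
      rw [hmem] at hv ⊢
      refine ⟨hUi j v hv.1, ?_⟩
      rw [hf, hv.2, map_smul]
    have h2 : ¬ U' < U := hmin U' ⟨hU'0, hU'i⟩
    have h3 : U' = U := by
      by_contra hne
      exact h2 (lt_of_le_of_ne inf_le_left hne)
    intro v hv
    rw [← h3, hmem] at hv
    exact hv.2
  choose χ hχ using h1
  obtain ⟨v, hv, hv0⟩ := Submodule.exists_mem_ne_zero_of_ne_bot hU0
  exact ⟨v, hv0, χ, fun i => hχ i v hv⟩

/-- **abelian normal subgroups act by scalars** -/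
theorem scalar_of_abelian [IsAlgClosed k] [FiniteDimensional k V] [Finite G] (ρ : G →* End k V) (hirr : Irr ρ)
    {r : ℕ} (hidx : ∀ M : Subgroup G, M ≠ ⊤ → r ≤ M.index) (hn : finrank k V < r) (A : Subgroup G) (hA : A.Normal)
    (hab : ∀ a ∈ A, ∀ b ∈ A, a * b = b * a) : ∀ a ∈ A, ∃ c : k, ∀ v, ρ a v = c • v := by
  classical
  have hnt : Nontrivial V := hirr.1
  obtain ⟨v₀, hv₀, χ, hχ⟩ := exists_joint_eig (fun a : A => ρ a) (fun a b v => by
    rw [← mul_apply', ← mul_apply', hab a a.2 b b.2])
  -- the conjugated weight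
  let χ' : G → A → k := fun g a => χ ⟨g⁻¹ * a * g, by
    have := hA.conj_mem a a.2 g⁻¹
    rwa [inv_inv] at this⟩
  have hw : ∀ (g : G) (a : A), ρ a (ρ g v₀) = χ' g a • ρ g v₀ := by
    intro g a
    have h1 := hχ ⟨g⁻¹ * a * g, by
      have := hA.conj_mem a a.2 g⁻¹
      rwa [inv_inv] at this⟩
    change ρ (g⁻¹ * a * g) v₀ = χ' g a • v₀ at h1
    rw [← map_smul, ← h1, ← mul_apply', ← mul_apply']
    congr 2
    group
  have hmul : ∀ (g h : G) (a : A), χ' (g * h) a = χ' h ⟨g⁻¹ * a * g, by
      have := hA.conj_mem a a.2 g⁻¹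
      rwa [inv_inv] at this⟩ := by
    intro g h a
    change χ _ = χ _
    congr 1
    apply Subtype.ext
    change (g * h)⁻¹ * a * (g * h) = h⁻¹ * (g⁻¹ * a * g) * h
    group
  let S : Subgroup G :=
    { carrier := {g | ∀ a, χ' g a = χ a}
      one_mem' := by
        intro a
        change χ _ = χ _
        congr 1
        apply Subtype.ext
        change 1⁻¹ * (a : G) * 1 = a
        group
      mul_mem' := by
        intro g h hg hh a
        rw [hmul, hh]
        exact hg a
      inv_mem' := by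
        intro g hg a
        have h1 := hg ⟨g * a * g⁻¹, hA.conj_mem a a.2 g⟩
        change χ _ = χ _ at h1
        change χ _ = χ _
        have h2 : (⟨g⁻¹⁻¹ * a * g⁻¹, by
          have := hA.conj_mem a a.2 g⁻¹⁻¹
          rwa [inv_inv] at this ⊢⟩ : A) = ⟨g * a * g⁻¹, hA.conj_mem a a.2 g⟩ := by
          apply Subtype.ext
          change g⁻¹⁻¹ * (a : G) * g⁻¹ = g * a * g⁻¹
          rw [inv_inv]
        rw [h2, ← h1]
        congr 1
        apply Subtype.ext
        change g⁻¹ * (g * (a : G) * g⁻¹) * g = a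
        group }
  have hS : S = ⊤ := by
    by_contra hne
    have h1 := hidx S hne
    have : Fintype (G ⧸ S) := Fintype.ofFinite _
    have h2 : Fintype.card (G ⧸ S) ≤ finrank k V := by
      refine card_le_of_wt (fun a : A => ρ a) (fun i : G ⧸ S => ρ i.out v₀) (fun i => χ' i.out) ?_
        (fun i => ne_zero ρ _ hv₀) (fun i a => hw _ _)
      intro i j hij
      have h3 : i.out⁻¹ * j.out ∈ S := by
        intro a
        rw [hmul]
        have h4 := congrFun hij ⟨i.out⁻¹⁻¹ * a * i.out⁻¹, by
          have := hA.conj_mem a a.2 i.out⁻¹⁻¹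
          rwa [inv_inv] at this ⊢⟩
        change χ' i.out _ = χ' j.out _ at h4
        rw [← h4]
        change χ _ = χ _
        congr 1
        apply Subtype.ext
        change i.out⁻¹ * (i.out⁻¹⁻¹ * (a : G) * i.out⁻¹) * i.out = a
        group
      rw [← QuotientGroup.eq, QuotientGroup.out_eq', QuotientGroup.out_eq'] at h3
      exact h3
    rw [Subgroup.index, Nat.card_eq_fintype_card] at h1
    omega
  intro a ha
  refine ⟨χ ⟨a, ha⟩, ?_⟩
  let U : Submodule k V := LinearMap.ker (ρ a - χ ⟨a, ha⟩ • (1 : End k V))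
  have hmem : ∀ v, v ∈ U ↔ ρ a v = χ ⟨a, ha⟩ • v := by
    intro v
    rw [LinearMap.mem_ker, LinearMap.sub_apply, LinearMap.smul_apply, End.one_apply, sub_eq_zero]
  -- the span of the orbit
  let O : Submodule k V := Submodule.span k (Set.range fun g : G => ρ g v₀)
  have hO : O = ⊤ := by
    rcases hirr.2 O (by
      intro g v hv
      induction hv using Submodule.span_induction with
      | mem x hx =>
        obtain ⟨h, rfl⟩ := hx
        apply Submodule.subset_span
        exact ⟨g * h, mul_apply' _ _ _ _⟩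
      | zero => rw [map_zero]; exact zero_mem _
      | add x y _ _ hx hy => rw [map_add]; exact add_mem hx hy
      | smul c x _ hx => rw [map_smul]; exact Submodule.smul_mem _ _ hx) with h | h
    · exfalso
      apply hv₀
      have h1 : v₀ ∈ O := Submodule.subset_span ⟨1, by
        change ρ 1 v₀ = v₀
        rw [map_one, End.one_apply]⟩
      rwa [h, Submodule.mem_bot] at h1
    · exact h
  have hOU : O ≤ U := by
    rw [Submodule.span_le]
    rintro _ ⟨g, rfl⟩
    change _ ∈ U
    rw [hmem]
    have h1 : g ∈ S := by rw [hS]; trivial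
    have h2 := hw g ⟨a, ha⟩
    rw [h1 ⟨a, ha⟩] at h2
    exact h2
  intro v
  rw [← hmem]
  apply hOU
  rw [hO]
  trivial

/-- elements acting as scalars are central -/
theorem mem_center_of_scalar (ρ : G →* End k V) (hinj : Function.Injective ρ) {a : G} {c : k}
    (h : ∀ v, ρ a v = c • v) : a ∈ Subgroup.center G := by
  rw [Subgroup.mem_center_iff]
  intro g
  apply hinj
  ext v
  rw [mul_apply', mul_apply', h, h, map_smul]

/-- the number of cosets of the centre -/
theorem card_quot_le [FiniteDimensional k V] [Nontrivial V] [Finite G] (ρ : G →* End k V)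
    (hinj : Function.Injective ρ) (N : Subgroup G)
    (hsc : ∀ z ∈ Subgroup.center G, ∃ c : k, ∀ v, ρ z v = c • v)
    (hcomm : ∀ x ∈ N, ∀ y ∈ N, ⁅x, y⁆ ∈ Subgroup.center G)
    (hZ : ∀ x ∈ N, (∀ y ∈ N, x * y = y * x) → x ∈ Subgroup.center G) :
    Nat.card (N ⧸ (Subgroup.center G).subgroupOf N) ≤ finrank k V * finrank k V := by
  classical
  have : Fintype (N ⧸ (Subgroup.center G).subgroupOf N) := Fintype.ofFinite _
  rw [Nat.card_eq_fintype_card, ← Module.finrank_linearMap k k V V]
  -- scalar of a commutator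
  have h1 : ∀ (y x : N), ∃ c : k, ρ ⁅(y : G), (x : G)⁆ = c • (1 : End k V) := by
    intro y x
    obtain ⟨c, hc⟩ := hsc _ (hcomm y y.2 x x.2)
    refine ⟨c, ?_⟩
    ext v
    rw [hc, LinearMap.smul_apply, End.one_apply]
  choose c hc using h1
  let f : N → End k (End k V) := fun y => LinearMap.mulLeft k (ρ y) * LinearMap.mulRight k (ρ (y : G)⁻¹)
  refine card_le_of_wt (M := End k V) f (fun i : N ⧸ (Subgroup.center G).subgroupOf N => ρ (i.out : G))
    (fun i y => c y i.out) ?_ ?_ ?_
  · intro i j hij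
    have h2 : ∀ y : N, ⁅(y : G), (i.out : G)⁆ = ⁅(y : G), (j.out : G)⁆ := by
      intro y
      apply hinj
      have h3 := congrFun hij y
      change c y i.out = c y j.out at h3
      rw [hc, hc, h3]
    have h3 : (i.out : G)⁻¹ * (j.out : G) ∈ Subgroup.center G := by
      apply hZ _ (mul_mem (inv_mem i.out.2) j.out.2)
      intro y hy
      have h4 := h2 ⟨y⁻¹, inv_mem hy⟩
      change ⁅y⁻¹, (i.out : G)⁆ = ⁅y⁻¹, (j.out : G)⁆ at h4
      rw [commutatorElement_def, commutatorElement_def, inv_inv] at h4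
      -- y⁻¹ x y x⁻¹ = y⁻¹ x' y x'⁻¹
      have h5 : (i.out : G) * y * (i.out : G)⁻¹ = (j.out : G) * y * (j.out : G)⁻¹ := by
        have h6 := congrArg (fun t => y * t) h4
        simpa [mul_assoc] using h6
      calc (i.out : G)⁻¹ * (j.out : G) * y
          = (i.out : G)⁻¹ * ((j.out : G) * y * (j.out : G)⁻¹) * (j.out : G) := by group
        _ = y * ((i.out : G)⁻¹ * (j.out : G)) := by rw [← h5]; group
    have h4 : i.out⁻¹ * j.out ∈ (Subgroup.center G).subgroupOf N := h3
    rw [← QuotientGroup.eq, QuotientGroup.out_eq', QuotientGroup.out_eq'] at h4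
    exact h4
  · intro i h
    obtain ⟨v, hv⟩ := exists_ne (0 : V)
    apply ne_zero ρ (i.out : G) hv
    change ρ (i.out : G) = 0 at h
    rw [h, LinearMap.zero_apply]
  · intro i y
    change ρ y * (ρ (i.out : G) * ρ (y : G)⁻¹) = c y i.out • ρ (i.out : G)
    have h2 : c y i.out • ρ (i.out : G) = ρ ⁅(y : G), (i.out : G)⁆ * ρ (i.out : G) := by
      rw [hc, smul_mul_assoc, one_mul]
    rw [h2, ← map_mul, ← map_mul, ← map_mul, commutatorElement_def]
    congr 1
    group

end Cfsg.Agent.H189.FTRep
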