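import Mathlib
import Cfsg.Agent.H718.ConjRep
import Cfsg.Agent.Lib.FrattiniPGroup
import Cfsg.Agent.H190.Frattini
import Cfsg.Agent.S0892
import Cfsg.Agent.H189.FeitTits
import Cfsg.Agent.H186.FusEmb
import Cfsg.Agent.H190.Act
import Cfsg.Agent.H190.Start
import Cfsg.Agent.S1064
import Cfsg.Agent.S1065
import Cfsg.Agent.S1035
import Cfsg.Agent.S1039
import Cfsg.Agent.S1093
set_option linter.all false

-- part: H186/MinCover
section
/-!
# Minimal covers of simple groups and the prime `ℓ` (helper186)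

`MinCover φ`: `φ : H →* A` is onto and no proper subgroup of `H` maps onto `A`.
If `A` is simple, perfect, and has no faithful-modulo-kernel representation over `F_ℓ` of dimension `≤ m`, and the
elementary abelian `ℓ`-sections of `H` have rank `≤ m`, then the Sylow `ℓ`-subgroup of `ker φ` is central in `H`
(`MinCover.sylow_central`).
-/

set_option autoImplicit false

namespace Cfsg.Agent.H186

open Subgroup
open scoped commutatorElement

universe u v

/-- `φ` is onto and no proper subgroup of `H` maps onto `A`. -/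
structure MinCover {H : Type u} {A : Type v} [Group H] [Group A] (φ : H →* A) : Prop where
  surj : Function.Surjective φ
  min : ∀ L : Subgroup H, (∀ a, ∃ h ∈ L, φ h = a) → L = ⊤

theorem exists_min_cover {H : Type u} {A : Type v} [Group H] [Finite H] [Group A] (φ : H →* A)
    (hφ : Function.Surjective φ) : ∃ H' : Subgroup H, MinCover (φ.comp H'.subtype) := by
  classical
  let P : Subgroup H → Prop := fun L => ∀ a, ∃ h ∈ L, φ h = a
  have hfin : (Set.univ : Set (Subgroup H)).Finite := Set.toFinite _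
  obtain ⟨M, hM⟩ := (Set.toFinite {L : Subgroup H | P L}).exists_minimal
    ⟨⊤, fun a => by obtain ⟨h, hh⟩ := hφ a; exact ⟨h, mem_top h, hh⟩⟩
  refine ⟨M, ⟨fun a => ?_, fun L hL => ?_⟩⟩
  · obtain ⟨h, hh, e⟩ := hM.prop a
    exact ⟨⟨h, hh⟩, e⟩
  · have h1 : P (L.map M.subtype) := by
      intro a
      obtain ⟨h, hh, e⟩ := hL a
      exact ⟨h, ⟨h, hh, rfl⟩, e⟩
    have h2 : L.map M.subtype ≤ M := map_subtype_le L
    have h3 := hM.le_of_le h1 h2
    rw [eq_top_iff]
    intro x _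
    obtain ⟨y, hy, hyx⟩ := h3 x.2
    have : y = x := Subtype.ext hyx
    exact this ▸ hy

namespace MinCover

variable {H : Type u} {A : Type v} [Group H] [Group A] {φ : H →* A}

theorem eq_top_of_sup (h : MinCover φ) {L : Subgroup H} (hL : L ⊔ φ.ker = ⊤) : L = ⊤ := by
  apply h.min
  intro a
  obtain ⟨x, rfl⟩ := h.surj a
  have hx : x ∈ L ⊔ φ.ker := hL ▸ mem_top x
  obtain ⟨y, hy, z, hz, rfl⟩ := mem_sup_of_normal_right.1 hx
  exact ⟨y, hy, by rw [map_mul, MonoidHom.mem_ker.1 hz, mul_one]⟩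

/-- normal subgroups of a minimal cover of a simple group -/
theorem normal_le_or (h : MinCover φ) [IsSimpleGroup A] (C : Subgroup H) [hC : C.Normal] :
    C ≤ φ.ker ∨ C = ⊤ := by
  have hn : (C.map φ).Normal := hC.map φ h.surj
  rcases hn.eq_bot_or_eq_top with h1 | h1
  · left
    rwa [Subgroup.map_eq_bot_iff] at h1
  · right
    apply h.min
    intro a
    have : a ∈ C.map φ := h1 ▸ mem_top a
    exact this

theorem perfect (h : MinCover φ) (hA : commutator A = ⊤) : commutator H = ⊤ := by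
  apply h.min
  intro a
  have h1 : (commutator H).map φ = commutator A := by
    rw [_root_.commutator_def, _root_.commutator_def, map_commutator, ← MonoidHom.range_eq_map,
      MonoidHom.range_eq_top.2 h.surj]
  have : a ∈ (commutator H).map φ := by rw [h1, hA]; exact mem_top a
  exact this

variable [Finite H]

/-- the Sylow subgroups of the kernel are normal -/
theorem sylow_normal (h : MinCover φ) (ℓ : ℕ) [hl : Fact ℓ.Prime] (Q : Sylow ℓ φ.ker) :
    ((Q : Subgroup φ.ker).map φ.ker.subtype).Normal := by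
  have h1 := Sylow.normalizer_sup_eq_top Q
  have h2 := h.eq_top_of_sup h1
  exact normalizer_eq_top_iff.1 h2

end MinCover

/-- No group covering `A` acts on an `F_ℓ`-space of dimension `≤ m` with kernel inside the kernel of the cover. -/
def NoSmallRep (A : Type v) [Group A] (ℓ m : ℕ) : Prop :=
  ∀ (G : Type u) [Group G] [Finite G] (π : G →* A), Function.Surjective π →
    ∀ (E : Type u) [AddCommGroup E] [Module (ZMod ℓ) E] [Finite E] (ρ : Representation (ZMod ℓ) G E),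
      (∀ g, ρ g = 1 → π g = 1) → m < Module.finrank (ZMod ℓ) E

/-- elementary abelian `ℓ`-sections of `H` have order at most `ℓ ^ m` -/
def SecBound (H : Type u) [Group H] (ℓ m : ℕ) : Prop :=
  ∀ (R R₂ : Subgroup H), R₂ ≤ R → IsPGroup ℓ R → (∀ x ∈ R, x ^ ℓ ∈ R₂) →
    (∀ x ∈ R, ∀ y ∈ R, x * y * x⁻¹ * y⁻¹ ∈ R₂) → (∀ x ∈ R, ∀ y ∈ R₂, x * y * x⁻¹ ∈ R₂) → R₂.relIndex R ≤ ℓ ^ m

theorem frattini_ne_top {R : Type*} [Group R] [Finite R] [Nontrivial R] : frattini R ≠ ⊤ := by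
  intro h
  have h1 := frattini_nongenerating (G := R) (K := ⊥) (by rw [h, bot_sup_eq])
  exact bot_ne_top h1

namespace MinCover

variable {H : Type u} {A : Type v} [Group H] [Group A] {φ : H →* A} [Finite H]

/-- the commutator `[Q, H]` of a normal subgroup satisfies `[Q, H] = [Q, H, H]` if `H` is perfect. -/
theorem comm_eq (hH : commutator H = ⊤) (Q : Subgroup H) [Q.Normal] : ⁅⁅Q, (⊤ : Subgroup H)⁆, (⊤ : Subgroup H)⁆ = ⁅Q, (⊤ : Subgroup H)⁆ := by
  apply le_antisymm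
  · exact commutator_le_left _ _
  · set N := ⁅⁅Q, (⊤ : Subgroup H)⁆, (⊤ : Subgroup H)⁆ with hN
    have hNn : N.Normal := inferInstance
    let π := QuotientGroup.mk' N
    have hπ : Function.Surjective π := QuotientGroup.mk'_surjective N
    have ht : (⊤ : Subgroup H).map π = ⊤ := by
      rw [← MonoidHom.range_eq_map, MonoidHom.range_eq_top.2 hπ]
    have hb : N.map π = ⊥ := by
      rw [Subgroup.map_eq_bot_iff, QuotientGroup.ker_mk']
    -- in the quotient
    have h1 : ⁅⁅Q.map π, (⊤ : Subgroup (H ⧸ N))⁆, (⊤ : Subgroup (H ⧸ N))⁆ = ⊥ := by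
      rw [← ht, ← map_commutator, ← map_commutator, ← hN, hb]
    have h2 : ⁅⁅(⊤ : Subgroup (H ⧸ N)), Q.map π⁆, (⊤ : Subgroup (H ⧸ N))⁆ = ⊥ := by
      rw [commutator_comm (⊤ : Subgroup (H ⧸ N)) (Q.map π), h1]
    have h3 : ⁅⁅(⊤ : Subgroup (H ⧸ N)), (⊤ : Subgroup (H ⧸ N))⁆, Q.map π⁆ = ⊥ :=
      commutator_commutator_eq_bot_of_rotate h2 h1
    have h4 : ⁅(⊤ : Subgroup (H ⧸ N)), (⊤ : Subgroup (H ⧸ N))⁆ = ⊤ := by
      rw [← ht, ← map_commutator, ← _root_.commutator_def, hH]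
    rw [h4, commutator_comm, ← ht, ← map_commutator, Subgroup.map_eq_bot_iff, QuotientGroup.ker_mk'] at h3
    exact h3

theorem sylow_central [IsSimpleGroup A] (h : MinCover φ) (hA : commutator A = ⊤) {ℓ m : ℕ}
    [hl : Fact ℓ.Prime] (hNS : NoSmallRep.{u, v} A ℓ m) (hSB : SecBound H ℓ m) (Q : Sylow ℓ φ.ker) :
    (Q : Subgroup φ.ker).map φ.ker.subtype ≤ center H := by
  have hQn := h.sylow_normal ℓ Q
  have hQp : IsPGroup ℓ ((Q : Subgroup φ.ker).map φ.ker.subtype) := Q.isPGroup'.map _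
  set Q₀ := (Q : Subgroup φ.ker).map φ.ker.subtype with hQ₀
  have hH := h.perfect hA
  set R := ⁅Q₀, (⊤ : Subgroup H)⁆ with hR
  have hRn : R.Normal := inferInstance
  have hRR : ⁅R, (⊤ : Subgroup H)⁆ = R := comm_eq hH Q₀
  have hRQ : R ≤ Q₀ := commutator_le_left _ _
  by_cases hbot : R = ⊥
  · intro x hx
    rw [mem_center_iff]
    intro g
    have h1 : ⁅x, g⁆ ∈ R := commutator_mem_commutator hx (mem_top g)
    rw [hbot, mem_bot, commutatorElement_eq_one_iff_mul_comm] at h1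
    exact h1.symm
  · exfalso
    have hRp : IsPGroup ℓ R := hQp.to_le hRQ
    have hnt : Nontrivial R := (nontrivial_iff_ne_bot R).2 hbot
    let R₂ : Subgroup H := (frattini R).map R.subtype
    have hR₂n : R₂.Normal := ConjAct.normal_of_characteristic_of_normal
    have hR₂le : R₂ ≤ R := map_subtype_le _
    have hR₂ne : ¬ R ≤ R₂ := by
      intro hle
      apply frattini_ne_top (R := R)
      rw [eq_top_iff]
      intro x _
      obtain ⟨y, hy, hyx⟩ := hle x.2
      have : y = x := Subtype.ext hyx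
      exact this ▸ hy
    have hpow : ∀ x ∈ R, x ^ ℓ ∈ R₂ := by
      intro x hx
      exact ⟨(⟨x, hx⟩ : R) ^ ℓ, Cfsg.Agent.Lib.FrattiniPGroup.pow_mem_frattini hRp _, rfl⟩
    have hcomm : ∀ x ∈ R, ∀ y ∈ R, x * y * x⁻¹ * y⁻¹ ∈ R₂ := by
      intro x hx y hy
      have := Cfsg.Agent.Lib.FrattiniPGroup.commutator_mem_frattini hRp (⟨x, hx⟩ : R) ⟨y, hy⟩
      exact ⟨_, this, rfl⟩
    have hidx := hSB R R₂ hR₂le hRp hpow hcomm (fun x _ y hy => hR₂n.conj_mem y hy x)
    -- the quotient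
    let π := QuotientGroup.mk' R₂
    have hπ : Function.Surjective π := QuotientGroup.mk'_surjective R₂
    obtain ⟨E, i1, i2, i3, e, ρ, hadd, hρ⟩ := Cfsg.Agent.H718.exists_conjRep (X := H ⧸ R₂) ℓ ⊤ (R.map π)
      (by
        rintro _ ⟨x, hx, rfl⟩ _ ⟨y, hy, rfl⟩
        have h1 : π (x * y * x⁻¹ * y⁻¹) = 1 := (QuotientGroup.eq_one_iff _).2 (hcomm x hx y hy)
        rw [map_mul, map_mul, map_mul, map_inv, map_inv, mul_inv_eq_one, mul_inv_eq_iff_eq_mul] at h1
        exact h1)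
      (by
        rintro _ ⟨x, hx, rfl⟩
        rw [← map_pow]
        exact (QuotientGroup.eq_one_iff _).2 (hpow x hx))
      (by
        rintro g - _ ⟨x, hx, rfl⟩
        obtain ⟨g, rfl⟩ := hπ g
        rw [← map_inv, ← map_mul, ← map_mul]
        exact ⟨_, hRn.conj_mem x hx g, rfl⟩)
    let ρ' : Representation (ZMod ℓ) H E := ρ.comp ((topEquiv (G := H ⧸ R₂)).symm.toMonoidHom.comp π)
    have hρ' : ∀ (g : H) (s : E), ((e (ρ' g s) : R.map π) : H ⧸ R₂) = π g * e s * (π g)⁻¹ := fun g s => hρ _ s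
    have hker : ∀ g, ρ' g = 1 ↔ ∀ x ∈ R, ⁅g, x⁆ ∈ R₂ := by
      intro g
      constructor
      · intro hg x hx
        have h1 := hρ' g (e.symm ⟨π x, ⟨x, hx, rfl⟩⟩)
        rw [hg, Module.End.one_apply, Equiv.apply_symm_apply] at h1
        change π x = π g * π x * (π g)⁻¹ at h1
        have h2 : π ⁅g, x⁆ = 1 := by
          rw [commutatorElement_def, map_mul, map_mul, map_mul, map_inv, map_inv, ← h1, mul_inv_cancel]
        exact (QuotientGroup.eq_one_iff _).1 h2
      · intro hg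
        apply LinearMap.ext
        intro s
        apply e.injective
        apply Subtype.ext
        rw [hρ' g s, Module.End.one_apply]
        obtain ⟨x, hx, hxs⟩ := (e s).2
        rw [← hxs]
        have h2 : π ⁅g, x⁆ = 1 := (QuotientGroup.eq_one_iff _).2 (hg x hx)
        rw [commutatorElement_def, map_mul, map_mul, map_mul, map_inv, map_inv, mul_inv_eq_one] at h2
        exact h2
    -- the kernel
    have hfr : Module.finrank (ZMod ℓ) E ≤ m := by
      have h1 := Module.natCard_eq_pow_finrank (K := ZMod ℓ) (V := E)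
      rw [Nat.card_zmod, Nat.card_congr e] at h1
      have h2 : Nat.card (R.map π) = R₂.relIndex R := by
        have hb : R₂.map π = ⊥ := by rw [Subgroup.map_eq_bot_iff, QuotientGroup.ker_mk']
        rw [← relIndex_bot_left, ← hb]
        have := relIndex_map_map π R₂ R
        rw [this, QuotientGroup.ker_mk', sup_idem, sup_eq_left.2 hR₂le]
      rw [h2] at h1
      rw [h1] at hidx
      exact (Nat.pow_le_pow_iff_right hl.out.one_lt).1 hidx
    let C : Subgroup H := ρ'.toHomUnits.ker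
    have hC : ∀ g, g ∈ C ↔ ρ' g = 1 := by
      intro g
      rw [MonoidHom.mem_ker]
      constructor
      · intro hg
        exact congrArg Units.val hg
      · intro hg
        exact Units.ext hg
    rcases h.normal_le_or C with h1 | h1
    · have h2 := hNS H φ h.surj E ρ' (fun g hg => MonoidHom.mem_ker.1 (h1 ((hC g).2 hg)))
      exact absurd hfr (not_le.2 h2)
    · apply hR₂ne
      rw [← hRR, commutator_comm, commutator_le]
      intro g _ x hx
      exact (hker g).1 ((hC g).1 (h1 ▸ mem_top g)) x hx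

end MinCover

end Cfsg.Agent.H186
end

-- part: H186/MinCoverAlt
section
/-!
# Minimal covers of alternating groups: odd primes do not divide the kernel (helper186)

* `MinCover.not_dvd_card_ker` : `φ : H →* A_n` a minimal cover, `n ≥ 8`, `ℓ` odd, Sylow `ℓ`-subgroup of the kernel
  central: then `ℓ ∤ |ker φ|`;
* `exists_section_hom` : `ℓ`-subgroups of `A` lift to `H`, with their normalisers;
* `conj_of_conj` : if `ℓ ∤ |ker φ|`, two `ℓ`-elements of `H` with conjugate images are conjugate.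
-/

set_option autoImplicit false

namespace Cfsg.Agent.H186

open Subgroup
open scoped commutatorElement

universe u v

theorem MinCover.not_dvd_card_ker {H : Type u} [Group H] [Finite H] {n : ℕ} (hn : 8 ≤ n)
    {φ : H →* alternatingGroup (Fin n)} (h : MinCover φ) (hA : commutator (alternatingGroup (Fin n)) = ⊤)
    {ℓ : ℕ} [hl : Fact ℓ.Prime] (hodd : ℓ ≠ 2) (Q : Sylow ℓ φ.ker)
    (hQ : (Q : Subgroup φ.ker).map φ.ker.subtype ≤ center H) : ¬ ℓ ∣ Nat.card φ.ker := by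
  have hcen : ∀ x ∈ (Q : Subgroup φ.ker), ∀ g : φ.ker, g * x = x * g := by
    intro x hx g
    have h1 := hQ ⟨x, hx, rfl⟩
    rw [mem_center_iff] at h1
    exact Subtype.ext (h1 g)
  have hP : normalizer ((Q : Subgroup φ.ker) : Set φ.ker) ≤ centralizer ((Q : Subgroup φ.ker) : Set φ.ker) := by
    intro g _
    rw [mem_centralizer_iff]
    intro x hx
    exact (hcen x hx g).symm
  set N := (MonoidHom.transferSylow Q hP).ker with hN
  have hcompl : N.IsComplement' (Q : Subgroup φ.ker) := MonoidHom.ker_transferSylow_isComplement' Q hP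
  have hNl : ¬ ℓ ∣ Nat.card N := MonoidHom.not_dvd_card_ker_transferSylow Q hP
  -- membership in `N`
  have hmem : ∀ x : φ.ker, x ∈ N ↔ (orderOf x).Coprime ℓ := by
    intro x
    constructor
    · intro hx
      have h1 : orderOf x ∣ Nat.card N := by
        have := orderOf_dvd_natCard (⟨x, hx⟩ : N)
        rwa [Subgroup.orderOf_mk] at this
      rw [Nat.coprime_comm, Nat.Prime.coprime_iff_not_dvd hl.out]
      exact fun hd => hNl (hd.trans h1)
    · intro hx
      rw [hN, MonoidHom.mem_ker]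
      have h1 : orderOf (MonoidHom.transferSylow Q hP x) ∣ orderOf x := orderOf_map_dvd _ _
      obtain ⟨k, hk⟩ := IsPGroup.iff_orderOf.1 Q.isPGroup' (MonoidHom.transferSylow Q hP x)
      have h2 : (ℓ ^ k) ∣ orderOf x := hk ▸ h1
      have h3 : ℓ ^ k = 1 := Nat.eq_one_of_dvd_coprimes (hx.pow_right k) h2 (dvd_refl _)
      rw [← orderOf_eq_one_iff, hk, h3]
  let N' : Subgroup H := N.map φ.ker.subtype
  have hN'n : N'.Normal := by
    refine ⟨?_⟩
    rintro _ ⟨x, hx, rfl⟩ g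
    have hk : g * (x : H) * g⁻¹ ∈ φ.ker := (MonoidHom.normal_ker φ).conj_mem x x.2 g
    refine ⟨⟨g * (x : H) * g⁻¹, hk⟩, ?_, rfl⟩
    have hx' := (hmem x).1 hx
    refine (hmem _).2 ?_
    have : orderOf (⟨g * (x : H) * g⁻¹, hk⟩ : φ.ker) = orderOf x := by
      rw [Subgroup.orderOf_mk, ← Subgroup.orderOf_coe x]
      exact (orderOf_injective (MulAut.conj g).toMonoidHom (MulAut.conj g).injective (x : H))
    rw [this]
    exact hx'
  have hN'le : N' ≤ φ.ker := map_subtype_le _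
  let π := QuotientGroup.mk' N'
  have hπ : Function.Surjective π := QuotientGroup.mk'_surjective N'
  let Z : Subgroup (H ⧸ N') := φ.ker.map π
  have hZn : Z.Normal := (MonoidHom.normal_ker φ).map π hπ
  have hZQ : ∀ z ∈ Z, ∃ q ∈ (Q : Subgroup φ.ker), π (q : H) = z := by
    rintro _ ⟨x, hx, rfl⟩
    have h1 : (⟨x, hx⟩ : φ.ker) ∈ N ⊔ (Q : Subgroup φ.ker) := by
      rw [hcompl.sup_eq_top]; exact mem_top _
    obtain ⟨y, hy, q, hq, e⟩ := mem_sup_of_normal_left.1 h1
    refine ⟨q, hq, ?_⟩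
    have h2 : x = (y : H) * (q : H) := congrArg Subtype.val e.symm
    have h3 : π (y : H) = 1 := (QuotientGroup.eq_one_iff _).2 ⟨y, hy, rfl⟩
    rw [h2, map_mul, h3, one_mul]
  have hZc : Z ≤ center (H ⧸ N') := by
    intro z hz
    obtain ⟨q, hq, rfl⟩ := hZQ z hz
    rw [mem_center_iff]
    intro g
    obtain ⟨g, rfl⟩ := hπ g
    have h1 := hQ ⟨q, hq, rfl⟩
    rw [mem_center_iff] at h1
    rw [← map_mul, ← map_mul]
    exact congrArg π (h1 g)
  have hH := h.perfect hA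
  have hZd : Z ≤ commutator (H ⧸ N') := by
    have h1 : commutator (H ⧸ N') = ⊤ := by
      rw [_root_.commutator_def, ← MonoidHom.range_eq_top.2 hπ, MonoidHom.range_eq_map, ← map_commutator,
        ← _root_.commutator_def, hH]
    rw [h1]
    exact le_top
  let e : (H ⧸ N') ⧸ Z ≃* alternatingGroup (Fin n) :=
    (QuotientGroup.quotientQuotientEquivQuotient N' φ.ker hN'le).trans
      (QuotientGroup.quotientKerEquivOfSurjective φ h.surj)
  have hcard := Cfsg.Agent.S0892.result n (by omega) (by omega) (by omega) Z hZc hZd e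
  -- `Z` is an `ℓ`-group
  have hZp : IsPGroup ℓ Z := by
    intro z
    obtain ⟨q, hq, hqz⟩ := hZQ z z.2
    obtain ⟨k, hk⟩ := Q.isPGroup' ⟨q, hq⟩
    refine ⟨k, ?_⟩
    apply Subtype.ext
    rw [Subgroup.coe_pow, ← hqz, ← map_pow, Subgroup.coe_one]
    have h1 : (q : H) ^ ℓ ^ k = 1 := congrArg (fun x : (Q : Subgroup φ.ker) => ((x : φ.ker) : H)) hk
    rw [h1, map_one]
  obtain ⟨k, hk⟩ := IsPGroup.iff_card.1 hZp
  have hk0 : k = 0 := by
    by_contra hk0
    have h1 : ℓ ^ 1 ≤ ℓ ^ k := Nat.pow_le_pow_right hl.out.pos (by omega)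
    have h2 := hl.out.two_le
    rw [pow_one, ← hk] at h1
    omega
  rw [hk0, pow_zero] at hk
  have hZ1 : Z = ⊥ := card_eq_one.1 hk
  have hle : φ.ker ≤ N' := by
    have := (Subgroup.map_eq_bot_iff _).1 hZ1
    rwa [QuotientGroup.ker_mk'] at this
  have : Nat.card φ.ker = Nat.card N := by
    have h9 : Nat.card φ.ker = Nat.card N' := congrArg (fun S : Subgroup H => Nat.card S) (le_antisymm hle hN'le)
    rw [h9]
    exact Nat.card_congr (N.equivMapOfInjective φ.ker.subtype φ.ker.subtype_injective).toEquiv.symm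
  rw [this]
  exact hNl

section Lift

variable {H : Type u} {A : Type v} [Group H] [Group A] [Finite H] {φ : H →* A}

/-- `ℓ`-subgroups of `A` lift to `H` if `ℓ` does not divide the order of the kernel. -/
theorem exists_section_hom (hφ : Function.Surjective φ) {ℓ : ℕ} [hl : Fact ℓ.Prime] (hk : ¬ ℓ ∣ Nat.card φ.ker)
    (Q : Subgroup A) (hQ : IsPGroup ℓ Q) :
    ∃ s : Q →* H, (∀ q, φ (s q) = q) ∧ ∀ a : A, ∀ ha : (∀ q : A, q ∈ Q ↔ a * q * a⁻¹ ∈ Q),
      ∃ h : H, φ h = a ∧ ∀ q : Q, h * s q * h⁻¹ = s ⟨a * q * a⁻¹, (ha q).1 q.2⟩ := by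
  obtain ⟨S, hS, hSQ, hSn⟩ := Cfsg.Agent.H190.frattini_section φ hφ ℓ Q hQ
  -- `φ` is injective on `S`
  have hinj : ∀ s ∈ S, φ s = 1 → s = 1 := by
    intro s hs h1
    obtain ⟨k, hk'⟩ := IsPGroup.iff_orderOf.1 hS ⟨s, hs⟩
    rw [Subgroup.orderOf_mk] at hk'
    have h2 : orderOf s ∣ Nat.card φ.ker := by
      have := orderOf_dvd_natCard (⟨s, MonoidHom.mem_ker.2 h1⟩ : φ.ker)
      rwa [Subgroup.orderOf_mk] at this
    rw [hk'] at h2
    have hk0 : k = 0 := by
      by_contra hk0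
      exact hk ((dvd_pow_self ℓ hk0).trans h2)
    rw [hk0, pow_zero] at hk'
    exact orderOf_eq_one_iff.1 hk'
  have hinj2 : ∀ s ∈ S, ∀ t ∈ S, φ s = φ t → s = t := by
    intro s hs t ht hst
    rw [← mul_inv_eq_one]
    exact hinj _ (mul_mem hs (inv_mem ht)) (by rw [map_mul, map_inv, hst, mul_inv_cancel])
  have hex : ∀ q : Q, ∃ s ∈ S, φ s = q := by
    intro q
    have : (q : A) ∈ S.map φ := hSQ ▸ q.2
    exact this
  choose f hfS hf using hex
  let s : Q →* H :=
    { toFun := f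
      map_one' := hinj2 _ (hfS _) _ S.one_mem (by rw [hf, map_one]; rfl)
      map_mul' := fun a b => hinj2 _ (hfS _) _ (mul_mem (hfS a) (hfS b)) (by rw [hf, map_mul, hf, hf]; rfl) }
  refine ⟨s, hf, fun a ha => ?_⟩
  obtain ⟨h, hh, hhS⟩ := hSn a ha
  refine ⟨h, hh, fun q => ?_⟩
  refine hinj2 _ ((hhS _).1 (hfS q)) _ (hfS _) ?_
  rw [map_mul, map_mul, map_inv, hh]
  change a * φ (f q) * a⁻¹ = φ (f _)
  rw [hf, hf]

/-- two `ℓ`-elements of `H` with conjugate images in `A` are conjugate -/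
theorem conj_of_conj (hφ : Function.Surjective φ) {ℓ : ℕ} [hl : Fact ℓ.Prime] (hk : ¬ ℓ ∣ Nat.card φ.ker)
    {a b : H} (ha : ∃ k, a ^ ℓ ^ k = 1) (hb : ∃ k, b ^ ℓ ^ k = 1) (hab : IsConj (φ a) (φ b)) : IsConj a b := by
  classical
  obtain ⟨c, hc⟩ := isConj_iff.1 hab
  obtain ⟨g, rfl⟩ := hφ c
  -- reduce to equal images
  set a' := g * a * g⁻¹ with ha'
  have haa : IsConj a a' := isConj_iff.2 ⟨g, rfl⟩
  refine haa.trans ?_
  have hφa : φ a' = φ b := by rw [ha', map_mul, map_mul, map_inv, hc]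
  have ha2 : ∃ k, a' ^ ℓ ^ k = 1 := by
    obtain ⟨k, hk⟩ := ha
    refine ⟨k, ?_⟩
    rw [ha', conj_pow, hk, mul_one, mul_inv_cancel]
  clear_value a'
  -- the subgroup `L = φ⁻¹ ⟨φ b⟩`
  let L : Subgroup H := (zpowers (φ b)).comap φ
  have hbL : b ∈ L := mem_zpowers (φ b)
  have haL : a' ∈ L := by change φ a' ∈ zpowers (φ b); rw [hφa]; exact mem_zpowers _
  have hpow : ∀ x : H, (∃ k, x ^ ℓ ^ k = 1) → IsPGroup ℓ (zpowers x) := by
    rintro x ⟨k, hk⟩
    obtain ⟨j, _, hj⟩ := (Nat.dvd_prime_pow hl.out).1 (orderOf_dvd_of_pow_eq_one hk)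
    exact IsPGroup.of_card (n := j) (by rw [Nat.card_zpowers, hj])
  -- order of `x ∈ L` with `φ x = φ b`, `x` an `ℓ`-element
  have hinj : ∀ x : H, (∃ k, x ^ ℓ ^ k = 1) → ∀ y ∈ zpowers x, φ y = 1 → y = 1 := by
    intro x hx y hy h1
    obtain ⟨k, hk'⟩ := IsPGroup.iff_orderOf.1 (hpow x hx) ⟨y, hy⟩
    rw [Subgroup.orderOf_mk] at hk'
    have h2 : orderOf y ∣ Nat.card φ.ker := by
      have := orderOf_dvd_natCard (⟨y, MonoidHom.mem_ker.2 h1⟩ : φ.ker)
      rwa [Subgroup.orderOf_mk] at this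
    rw [hk'] at h2
    have hk0 : k = 0 := by
      by_contra hk0
      exact hk ((dvd_pow_self ℓ hk0).trans h2)
    rw [hk0, pow_zero] at hk'
    exact orderOf_eq_one_iff.1 hk'
  have hord : ∀ x : H, (∃ k, x ^ ℓ ^ k = 1) → orderOf (φ x) = orderOf x := by
    intro x hx
    apply Nat.dvd_antisymm (orderOf_map_dvd φ x)
    apply orderOf_dvd_of_pow_eq_one
    apply hinj x hx _ (Subgroup.pow_mem _ (mem_zpowers x) _)
    rw [map_pow, pow_orderOf_eq_one]
  have hidx : ∀ x : H, (∃ k, x ^ ℓ ^ k = 1) → φ x = φ b → ¬ ℓ ∣ ((zpowers x).subgroupOf L).index := by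
    intro x hx hxb hd
    have hxL : x ∈ L := by change φ x ∈ zpowers (φ b); rw [hxb]; exact mem_zpowers _
    have h1 : Nat.card ((zpowers x).subgroupOf L) * ((zpowers x).subgroupOf L).index = Nat.card L :=
      card_mul_index _
    have h2 : Nat.card ((zpowers x).subgroupOf L) = orderOf x := by
      rw [Nat.card_congr (subgroupOfEquivOfLe (zpowers_le.2 hxL)).toEquiv, Nat.card_zpowers]
    have h3 : Nat.card L = Nat.card φ.ker * orderOf x := by
      let ψ : L →* zpowers (φ b) := (φ.comp L.subtype).codRestrict _ (fun y => y.2)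
      have hψ : Function.Surjective ψ := by
        rintro ⟨y, hy⟩
        obtain ⟨z, rfl⟩ := hφ y
        exact ⟨⟨z, hy⟩, rfl⟩
      have h4 := card_mul_index ψ.ker
      rw [index_ker, MonoidHom.range_eq_top.2 hψ, card_top, Nat.card_zpowers] at h4
      have h5 : orderOf (φ b) = orderOf x := by rw [← hxb, hord x hx]
      rw [← h4, h5]
      congr 1
      refine Nat.card_congr ⟨fun y => ⟨(y : L), ?_⟩, fun y => ⟨⟨y, ?_⟩, ?_⟩, fun _ => rfl, fun _ => rfl⟩
      · have := y.2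
        rw [MonoidHom.mem_ker] at this ⊢
        exact congrArg Subtype.val this
      · change φ y ∈ zpowers (φ b)
        rw [MonoidHom.mem_ker.1 y.2]
        exact one_mem _
      · rw [MonoidHom.mem_ker]
        exact Subtype.ext (MonoidHom.mem_ker.1 y.2)
    rw [h2, h3, mul_comm (Nat.card φ.ker)] at h1
    have h5 := Nat.eq_of_mul_eq_mul_left (orderOf_pos x) h1
    exact hk (h5 ▸ hd)
  -- `⟨a'⟩` is conjugate into `⟨b⟩` in `L`
  obtain ⟨k, hk'⟩ := Cfsg.Agent.H190.exists_conj_le ((zpowers b).subgroupOf L) (hidx b hb rfl)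
    ((zpowers a').subgroupOf L) ((hpow a' ha2).comap_subtype)
  have h6 : (k : H) * a' * (k : H)⁻¹ ∈ zpowers b := hk' ⟨a', haL⟩ (mem_zpowers a')
  -- `φ k` is a power of `φ b`
  have h7 : φ ((k : H) * a' * (k : H)⁻¹) = φ b := by
    obtain ⟨j, hj⟩ := mem_zpowers_iff.1 (show φ (k : H) ∈ zpowers (φ b) from k.2)
    have h10 : Commute (φ b ^ j) (φ b) := (Commute.refl (φ b)).zpow_left j
    rw [map_mul, map_mul, map_inv, hφa, ← hj, h10.eq, mul_inv_cancel_right]
  have h8 : (k : H) * a' * (k : H)⁻¹ = b := by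
    rw [← mul_inv_eq_one]
    exact hinj b hb _ (mul_mem h6 (inv_mem (mem_zpowers b))) (by rw [map_mul, map_inv, h7, mul_inv_cancel])
  exact isConj_iff.2 ⟨k, h8⟩

end Lift

end Cfsg.Agent.H186
end

-- part: H189/SecB
section
/-!
# Ranks of elementary abelian sections; lifting an `ℓ`-group with its fusion

* `card_quot_pow_le`: `|A / A^ℓ| ≤ |P[ℓ]|` if the finite abelian group `A` embeds in a quotient of the abelian group `P`.
* `secBound_of_torus`: `T` abelian, normal in `N ≤ X`, `ℓ ∤ |X : N|`, rank of `T` at most `a`, `v_ℓ(|N : T|) ≤ b`: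
  elementary abelian `ℓ`-sections of `X` have rank at most `a + b`.
* `exists_fus_hom`: `ℓ`-subgroups `P` of `A` lift through `φ : H → A` with `ℓ ∤ |ker φ|` together with all the fusion in `P`.
-/

set_option autoImplicit false

namespace Cfsg.Agent.H189.SecB

open Subgroup Cfsg.Agent.H186 Cfsg.Agent.H190

universe u v

section comm

theorem card_quot_pow {A : Type u} [CommGroup A] [Finite A] (ℓ : ℕ) :
    Nat.card (A ⧸ (powMonoidHom ℓ : A →* A).range) = Nat.card (powMonoidHom ℓ : A →* A).ker := by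
  have h1 := card_mul_index (powMonoidHom ℓ : A →* A).ker
  have h2 := card_mul_index (powMonoidHom ℓ : A →* A).range
  rw [index_ker] at h1
  have h3 : 0 < Nat.card (powMonoidHom ℓ : A →* A).range := Nat.card_pos
  have h4 : Nat.card (powMonoidHom ℓ : A →* A).range * Nat.card (powMonoidHom ℓ : A →* A).ker =
      Nat.card (powMonoidHom ℓ : A →* A).range * (powMonoidHom ℓ : A →* A).range.index := by
    rw [h2, ← h1, mul_comm]
  exact (Nat.eq_of_mul_eq_mul_left h3 h4).symm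

theorem card_quot_pow_le_of_surj {A B : Type*} [CommGroup A] [CommGroup B] [Finite A] [Finite B] (ℓ : ℕ)
    (f : A →* B) (hf : Function.Surjective f) :
    Nat.card (B ⧸ (powMonoidHom ℓ : B →* B).range) ≤ Nat.card (A ⧸ (powMonoidHom ℓ : A →* A).range) := by
  let g : A ⧸ (powMonoidHom ℓ : A →* A).range →* B ⧸ (powMonoidHom ℓ : B →* B).range :=
    QuotientGroup.map _ _ f (by
      rintro _ ⟨x, rfl⟩
      refine ⟨f x, ?_⟩
      change f x ^ ℓ = f (x ^ ℓ)
      rw [map_pow])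
  apply Nat.card_le_card_of_surjective g
  intro y
  obtain ⟨b, rfl⟩ := QuotientGroup.mk_surjective y
  obtain ⟨a, rfl⟩ := hf b
  exact ⟨(a : A ⧸ _), rfl⟩

theorem card_ker_pow_le_of_inj {A B : Type*} [CommGroup A] [CommGroup B] [Finite B] (ℓ : ℕ)
    (f : A →* B) (hf : Function.Injective f) :
    Nat.card (powMonoidHom ℓ : A →* A).ker ≤ Nat.card (powMonoidHom ℓ : B →* B).ker := by
  apply Nat.card_le_card_of_injective (fun x : (powMonoidHom ℓ : A →* A).ker =>
    (⟨f x, by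
      have h1 : (x : A) ^ ℓ = 1 := x.2
      change f x ^ ℓ = 1
      rw [← map_pow, h1, map_one]⟩ : (powMonoidHom ℓ : B →* B).ker))
  intro x y h
  exact Subtype.ext (hf (congrArg Subtype.val h))

/-- `A` embeds in a group covered by `P` -/
theorem card_quot_pow_le {A B P : Type*} [CommGroup A] [CommGroup B] [CommGroup P] [Finite A] [Finite P] (ℓ : ℕ)
    (f : A →* B) (hf : Function.Injective f) (θ : P →* B) (hθ : ∀ a, f a ∈ θ.range) :
    Nat.card (A ⧸ (powMonoidHom ℓ : A →* A).range) ≤ Nat.card (powMonoidHom ℓ : P →* P).ker := by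
  have hfin : Finite θ.range := Finite.of_surjective θ.rangeRestrict θ.rangeRestrict_surjective
  have h1 : Nat.card (powMonoidHom ℓ : A →* A).ker ≤ Nat.card (powMonoidHom ℓ : θ.range →* θ.range).ker :=
    card_ker_pow_le_of_inj ℓ (f.codRestrict θ.range hθ) (by
      intro x y h
      exact hf (congrArg Subtype.val h))
  have h2 := card_quot_pow_le_of_surj ℓ θ.rangeRestrict θ.rangeRestrict_surjective
  rw [card_quot_pow] at h2 ⊢
  rw [card_quot_pow] at h2
  exact h1.trans h2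

end comm

section sec

variable {X : Type u} [Group X]

theorem card_mul_relIndex {A B : Subgroup X} (h : A ≤ B) : Nat.card A * A.relIndex B = Nat.card B := by
  rw [← card_mul_index (A.subgroupOf B), relIndex]
  congr 1
  exact Nat.card_congr (subgroupOfEquivOfLe h).toEquiv.symm

/-- elementary abelian quotients of subgroups of `T` have order at most `ℓ ^ a` -/
def RankLe (T : Subgroup X) (ℓ a : ℕ) : Prop :=
  ∀ A A₂ : Subgroup X, A₂ ≤ A → A ≤ T → (∀ x ∈ A, x ^ ℓ ∈ A₂) → A₂.relIndex A ≤ ℓ ^ a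

theorem rankLe_of {B P : Type*} [CommGroup B] [CommGroup P] [Finite P] [Finite X] (T : Subgroup X)
    (hT : ∀ a ∈ T, ∀ b ∈ T, a * b = b * a) {ℓ a : ℕ} (f : T →* B) (hf : Function.Injective f) (θ : P →* B)
    (hθ : ∀ x, f x ∈ θ.range) (hP : Nat.card (powMonoidHom ℓ : P →* P).ker ≤ ℓ ^ a) : RankLe T ℓ a := by
  intro A A₂ h2 hA hpow
  let iA : CommGroup A := { (inferInstance : Group A) with
    mul_comm := fun x y => Subtype.ext (hT x (hA x.2) y (hA y.2)) }
  have h1 := card_quot_pow_le (A := A) ℓ (f.comp (inclusion hA)) (hf.comp (inclusion_injective hA)) θ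
    (fun x => hθ _)
  have h3 : (powMonoidHom ℓ : A →* A).range ≤ A₂.subgroupOf A := by
    rintro _ ⟨x, rfl⟩
    exact hpow x x.2
  have h4 : (A₂.subgroupOf A).index ≤ (powMonoidHom ℓ : A →* A).range.index :=
    Nat.le_of_dvd (Nat.pos_of_ne_zero index_ne_zero_of_finite) (index_dvd_of_le h3)
  exact h4.trans (h1.trans hP)

/-- **rank of the sections** -/
theorem secBound_of_torus [Finite X] {T N : Subgroup X}
    (hn : ∀ n ∈ N, ∀ t ∈ T, n * t * n⁻¹ ∈ T) {ℓ : ℕ} [hl : Fact ℓ.Prime] (hidx : ¬ ℓ ∣ N.index) {a b : ℕ}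
    (hrk : RankLe T ℓ a) (hb : ∀ k, ℓ ^ k ∣ T.relIndex N → k ≤ b) : SecBound X ℓ (a + b) := by
  classical
  -- subgroups of `N`
  have key : ∀ R R₂ : Subgroup X, R₂ ≤ R → R ≤ N → IsPGroup ℓ R → (∀ x ∈ R, x ^ ℓ ∈ R₂) →
      R₂.relIndex R ≤ ℓ ^ (a + b) := by
    intro R R₂ h2 hRN hR hpow
    have e1 : Nat.card (R ⊓ T : Subgroup X) * T.relIndex R = Nat.card R := by
      have := card_mul_index (T.subgroupOf R)
      rw [← this, relIndex]
      congr 1
      rw [inf_comm, ← subgroupOf_map_subtype]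
      exact Nat.card_congr ((T.subgroupOf R).equivMapOfInjective R.subtype R.subtype_injective).toEquiv.symm
    have e2 : Nat.card (R₂ ⊓ T : Subgroup X) * T.relIndex R₂ = Nat.card R₂ := by
      have := card_mul_index (T.subgroupOf R₂)
      rw [← this, relIndex]
      congr 1
      rw [inf_comm, ← subgroupOf_map_subtype]
      exact Nat.card_congr ((T.subgroupOf R₂).equivMapOfInjective R₂.subtype R₂.subtype_injective).toEquiv.symm
    have e3 : Nat.card R₂ * R₂.relIndex R = Nat.card R := card_mul_relIndex h2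
    have h4 : (R₂ ⊓ T : Subgroup X) ≤ R ⊓ T := inf_le_inf_right T h2
    have e4 : Nat.card (R₂ ⊓ T : Subgroup X) * (R₂ ⊓ T).relIndex (R ⊓ T) = Nat.card (R ⊓ T : Subgroup X) :=
      card_mul_relIndex h4
    have h5 : (R₂ ⊓ T).relIndex (R ⊓ T) ≤ ℓ ^ a :=
      hrk _ _ h4 inf_le_right (fun x hx => ⟨hpow x hx.1, pow_mem hx.2 ℓ⟩)
    have h6 : T.relIndex R ≤ ℓ ^ b := by
      have hd1 : T.relIndex R ∣ T.relIndex N := by
        have hTn : (T.subgroupOf N).Normal := by
          constructor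
          intro t ht n
          exact hn n n.2 t ht
        have := relIndex_dvd_index_of_normal (T.subgroupOf N) (R.subgroupOf N)
        rwa [relIndex_subgroupOf hRN] at this
      have hd2 : T.relIndex R ∣ Nat.card R := relIndex_dvd_card T R
      obtain ⟨k, hk⟩ := IsPGroup.iff_card.1 hR
      rw [hk] at hd2
      obtain ⟨j, _, hj⟩ := (Nat.dvd_prime_pow hl.out).1 hd2
      rw [hj]
      exact Nat.pow_le_pow_right hl.out.pos (hb j (hj ▸ hd1))
    have hpos2 : 0 < Nat.card R₂ := Nat.card_pos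
    have hpos3 : 0 < T.relIndex R₂ := Nat.pos_of_ne_zero (by
      intro h
      rw [h, mul_zero] at e2
      omega)
    have h7 : Nat.card R₂ * R₂.relIndex R ≤ Nat.card R₂ * ((R₂ ⊓ T).relIndex (R ⊓ T) * T.relIndex R) := by
      rw [e3, ← e1, ← e4, ← e2]
      calc Nat.card (R₂ ⊓ T : Subgroup X) * (R₂ ⊓ T).relIndex (R ⊓ T) * T.relIndex R
          = Nat.card (R₂ ⊓ T : Subgroup X) * ((R₂ ⊓ T).relIndex (R ⊓ T) * T.relIndex R) := mul_assoc _ _ _
        _ ≤ Nat.card (R₂ ⊓ T : Subgroup X) * T.relIndex R₂ * ((R₂ ⊓ T).relIndex (R ⊓ T) * T.relIndex R) :=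
          Nat.mul_le_mul_right _ (Nat.le_mul_of_pos_right _ hpos3)
    have h8 := Nat.le_of_mul_le_mul_left h7 hpos2
    rw [pow_add]
    exact h8.trans (Nat.mul_le_mul h5 h6)
  intro R R₂ h2 hR hpow _ _
  obtain ⟨g, hg⟩ := exists_conj_le N hidx R hR
  let c : X →* X := (MulAut.conj g).toMonoidHom
  have hc : Function.Injective c := (MulAut.conj g).injective
  have h3 := key (R.map c) (R₂.map c) (map_mono h2) (by
    rintro _ ⟨x, hx, rfl⟩
    exact hg x hx) (hR.map c) (by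
    rintro _ ⟨x, hx, rfl⟩
    refine ⟨x ^ ℓ, hpow x hx, ?_⟩
    rw [map_pow])
  rwa [relIndex_map_map_of_injective _ _ hc] at h3

/-- transfer along an embedding -/
theorem secBound_of_injective {H : Type v} [Group H] (ι : H →* X) (hι : Function.Injective ι) {ℓ m : ℕ}
    (h : SecBound X ℓ m) : SecBound H ℓ m := by
  intro R R₂ h2 hR hpow hcomm hnorm
  have h3 := h (R.map ι) (R₂.map ι) (map_mono h2) (hR.map ι) (by
      rintro _ ⟨x, hx, rfl⟩
      exact ⟨x ^ ℓ, hpow x hx, by rw [map_pow]⟩) (by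
      rintro _ ⟨x, hx, rfl⟩ _ ⟨y, hy, rfl⟩
      exact ⟨_, hcomm x hx y hy, by rw [map_mul, map_mul, map_mul, map_inv, map_inv]⟩) (by
      rintro _ ⟨x, hx, rfl⟩ _ ⟨y, hy, rfl⟩
      exact ⟨_, hnorm x hx y hy, by rw [map_mul, map_mul, map_inv]⟩)
  rwa [relIndex_map_map_of_injective _ _ hι] at h3

end sec

section lift

variable {H : Type u} {A : Type v} [Group H] [Group A] [Finite H] {φ : H →* A}

/-- an `ℓ`-group lifts with all its fusion -/
theorem exists_fus_hom (hφ : Function.Surjective φ) {ℓ : ℕ} [hl : Fact ℓ.Prime] (hk : ¬ ℓ ∣ Nat.card φ.ker)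
    (P : Subgroup A) (hP : IsPGroup ℓ P) :
    ∃ s : P →* H, (∀ q, φ (s q) = q) ∧ ∀ (a : A) (Q : Subgroup A) (hQ : Q ≤ P) (hQ' : ∀ q ∈ Q, a * q * a⁻¹ ∈ P),
      ∃ h : H, ∀ q (hq : q ∈ Q), h * s ⟨q, hQ hq⟩ * h⁻¹ = s ⟨a * q * a⁻¹, hQ' q hq⟩ := by
  classical
  obtain ⟨s, hs, -⟩ := exists_section_hom hφ hk P hP
  refine ⟨s, hs, ?_⟩
  intro a Q hQ hQ'
  obtain ⟨h₀, rfl⟩ := hφ a
  -- the conjugate of `Q`
  let Q₁ : Subgroup A := Q.map (MulAut.conj (φ h₀)).toMonoidHom
  have hQ₁ : Q₁ ≤ P := by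
    rintro _ ⟨q, hq, rfl⟩
    exact hQ' q hq
  let L : Subgroup H := Q₁.comap φ
  let S₁ : Subgroup H := (Q₁.subgroupOf P).map s
  have hS₁L : S₁ ≤ L := by
    rintro _ ⟨x, hx, rfl⟩
    change φ (s x) ∈ Q₁
    rw [hs]
    exact hx
  let S₂ : Subgroup H := ((Q.subgroupOf P).map s).map (MulAut.conj h₀).toMonoidHom
  have hS₂L : S₂ ≤ L := by
    rintro _ ⟨_, ⟨x, hx, rfl⟩, rfl⟩
    change φ (h₀ * s x * h₀⁻¹) ∈ Q₁
    rw [map_mul, map_mul, map_inv, hs]
    exact ⟨x, hx, rfl⟩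
  have hS₂p : IsPGroup ℓ S₂ := ((hP.to_subgroup (Q.subgroupOf P)).map s).map _
  -- the index of `S₁` in `L`
  have hsinj : Function.Injective s := by
    intro x y hxy
    apply Subtype.ext
    rw [← hs x, ← hs y, hxy]
  have hidx : ¬ ℓ ∣ (S₁.subgroupOf L).index := by
    intro hd
    let ψ : L →* Q₁ := (φ.comp L.subtype).codRestrict Q₁ (fun y => y.2)
    have hψ : Function.Surjective ψ := by
      rintro ⟨y, hy⟩
      obtain ⟨z, rfl⟩ := hφ y
      exact ⟨⟨z, hy⟩, rfl⟩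
    have h4 := card_mul_index ψ.ker
    rw [index_ker, MonoidHom.range_eq_top.2 hψ, card_top] at h4
    have h5 : Nat.card ψ.ker = Nat.card φ.ker := by
      refine Nat.card_congr ⟨fun y => ⟨(y : L), ?_⟩, fun y => ⟨⟨y, ?_⟩, ?_⟩, fun _ => rfl, fun _ => rfl⟩
      · exact congrArg Subtype.val (MonoidHom.mem_ker.1 y.2)
      · change φ y ∈ Q₁
        rw [MonoidHom.mem_ker.1 y.2]
        exact one_mem _
      · exact Subtype.ext (MonoidHom.mem_ker.1 y.2)
    have h6 : Nat.card (S₁.subgroupOf L) = Nat.card Q₁ := by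
      rw [Nat.card_congr (subgroupOfEquivOfLe hS₁L).toEquiv,
        ← Nat.card_congr (subgroupOfEquivOfLe hQ₁).toEquiv]
      exact Nat.card_congr ((Q₁.subgroupOf P).equivMapOfInjective s hsinj).toEquiv.symm
    have h7 := card_mul_index (S₁.subgroupOf L)
    rw [← h4, h5, h6, mul_comm (Nat.card φ.ker)] at h7
    have hfin : Finite Q₁ := Finite.of_surjective ψ hψ
    have h8 := Nat.eq_of_mul_eq_mul_left Nat.card_pos h7
    exact hk (h8 ▸ hd)
  obtain ⟨k, hk'⟩ := exists_conj_le (S₁.subgroupOf L) hidx (S₂.subgroupOf L) (hS₂p.comap_subtype)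
  have hkQ : φ (k : H) ∈ Q₁ := k.2
  let b : H := s ⟨φ (k : H), hQ₁ hkQ⟩
  have hb : b ∈ S₁ := ⟨⟨φ (k : H), hQ₁ hkQ⟩, hkQ, rfl⟩
  refine ⟨b⁻¹ * k * h₀, ?_⟩
  intro q hq
  have h1 : h₀ * s ⟨q, hQ hq⟩ * h₀⁻¹ ∈ S₂ := ⟨s ⟨q, hQ hq⟩, ⟨⟨q, hQ hq⟩, hq, rfl⟩, rfl⟩
  have h2 : (k : H) * (h₀ * s ⟨q, hQ hq⟩ * h₀⁻¹) * (k : H)⁻¹ ∈ S₁ := hk' ⟨_, hS₂L h1⟩ h1
  have h3 : b⁻¹ * k * h₀ * s ⟨q, hQ hq⟩ * (b⁻¹ * k * h₀)⁻¹ ∈ S₁ := by
    have h4 : b⁻¹ * k * h₀ * s ⟨q, hQ hq⟩ * (b⁻¹ * k * h₀)⁻¹ =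
        b⁻¹ * ((k : H) * (h₀ * s ⟨q, hQ hq⟩ * h₀⁻¹) * (k : H)⁻¹) * b := by group
    rw [h4]
    exact mul_mem (mul_mem (inv_mem hb) h2) hb
  obtain ⟨x, hx, hxe⟩ := h3
  rw [← hxe]
  congr 1
  apply Subtype.ext
  rw [← hs x, hxe]
  have hbk : φ b = φ k := hs _
  simp only [map_mul, map_inv, hs, hbk]
  group

end lift

end Cfsg.Agent.H189.SecB
end

-- part: H189/ExcLift
section
/-!
# Alternating sections of `E₇`, `E₈`: fusion-respecting embeddings of `ℓ`-subgroups in the monomial subgroup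

`exists_fusEmb_E7`, `exists_fusEmb_E8`.
-/

set_option autoImplicit false

namespace Cfsg.Agent.H189.ExcLift

open Cfsg.Lie Cfsg.Agent.ChevalleyStructure Cfsg.Agent.ChevalleyStructure.Elts Cfsg.Agent.H190 Cfsg.Agent.H186
  Cfsg.Agent.H189.SecB Cfsg.Agent.H189.FeitTits

universe u v

section torus

variable {F : Type u} [Field F] {D : ChevalleyDatum}

theorem card_pow_ker_le [Finite F] {ℓ : ℕ} (hl : ℓ ≠ 0) (n : ℕ) :
    Nat.card (powMonoidHom ℓ : (Fin n → Fˣ) →* (Fin n → Fˣ)).ker ≤ ℓ ^ n := by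
  classical
  have : Fintype F := Fintype.ofFinite F
  have : NeZero ℓ := ⟨hl⟩
  have h1 : Nat.card (powMonoidHom ℓ : (Fin n → Fˣ) →* (Fin n → Fˣ)).ker ≤ Nat.card (Fin n → rootsOfUnity ℓ F) := by
    apply Nat.card_le_card_of_injective (fun x : (powMonoidHom ℓ : (Fin n → Fˣ) →* (Fin n → Fˣ)).ker =>
      (fun i => (⟨(x : Fin n → Fˣ) i, by
        rw [mem_rootsOfUnity]
        have h2 : (x : Fin n → Fˣ) ^ ℓ = 1 := x.2
        exact congrFun h2 i⟩ : rootsOfUnity ℓ F)))
    intro x y h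
    apply Subtype.ext
    funext i
    exact congrArg Subtype.val (congrFun h i)
  refine h1.trans ?_
  rw [Nat.card_fun, Nat.card_eq_fintype_card (α := Fin n), Fintype.card_fin]
  apply Nat.pow_le_pow_left
  exact card_rootsOfUnity F ℓ

theorem rankLe_torus [Finite F] (hD : InList D) {ℓ : ℕ} (hl : ℓ ≠ 0) : RankLe (TG D F) ℓ D.rank := by
  classical
  have : Fintype F := Fintype.ofFinite F
  let f : TG D F →* (Fin D.nroots → Fˣ) :=
    { toFun := fun t r => Units.mk0 (ent ((t : ↥(D.group F)) : GL D.Idx F) r) (ent_ne_zero hD t.2 r)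
      map_one' := by
        funext r
        apply Units.ext
        change ((1 : GL D.Idx F) : Matrix D.Idx D.Idx F) (Sum.inr r) (Sum.inr r) = 1
        rw [Units.val_one, Matrix.one_apply_eq]
      map_mul' := by
        intro s t
        funext r
        apply Units.ext
        exact ent_mul hD s.2 t.2 r }
  let θ : (Fin D.rank → Fˣ) →* (Fin D.nroots → Fˣ) :=
    { toFun := fun c r => ∏ i : Fin D.rank, (c i) ^ (D.cartan i r)
      map_one' := by
        funext r
        simp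
      map_mul' := by
        intro c d
        funext r
        simp only [Pi.mul_apply, mul_zpow, Finset.prod_mul_distrib] }
  refine rankLe_of (TG D F) (torusData hD F).comm f ?_ θ ?_ (card_pow_ker_le hl D.rank)
  · intro s t h
    apply Subtype.ext
    apply Subtype.ext
    apply torus_ext hD s.2 t.2
    intro r
    exact congrArg (Units.val) (congrFun h r)
  · intro t
    obtain ⟨c, hc, h1, -⟩ := torus_form hD t.2
    refine ⟨fun i => Units.mk0 (c i) (hc i i.2), ?_⟩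
    funext r
    apply Units.ext
    change ((∏ i : Fin D.rank, (Units.mk0 (c i) (hc i i.2)) ^ (D.cartan i r) : Fˣ) : F) =
      ent ((t : ↥(D.group F)) : GL D.Idx F) r
    have h1' : ent ((t : ↥(D.group F)) : GL D.Idx F) r = _ := ent_of_dmat h1 r
    rw [h1', Units.coe_prod, Finset.prod_range]
    refine Finset.prod_congr rfl fun i _ => ?_
    rw [Units.val_zpow_eq_zpow_val, Units.val_mk0]

end torus

section index

theorem padic_geom {ℓ : ℕ} [hl : Fact ℓ.Prime] (hodd : ℓ ≠ 2) {q : ℕ} (hq : 1 < q) (hlq : ℓ ∣ q - 1) {k : ℕ}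
    (hk : k ≠ 0) : padicValNat ℓ (∑ j ∈ Finset.range k, q ^ j) = padicValNat ℓ k := by
  have h1 : (q - 1) * ∑ j ∈ Finset.range k, q ^ j = q ^ k - 1 := by
    rw [Nat.geomSum_eq hq, Nat.mul_div_cancel']
    exact Nat.sub_one_dvd_pow_sub_one _ _
  have hnd : ¬ ℓ ∣ q := by
    intro h
    have h2 : ℓ ∣ q - (q - 1) := Nat.dvd_sub h hlq
    rw [Nat.sub_sub_self hq.le] at h2
    exact hl.out.one_lt.ne' (Nat.dvd_one.1 h2)
  have h2 := padicValNat.pow_sub_pow (hl.out.odd_of_ne_two hodd) hq hlq hnd hk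
  rw [one_pow, ← h1, padicValNat.mul (by omega) ?_] at h2
  · omega
  · intro h3
    rw [h3, mul_zero] at h1
    have h4 : 1 < q ^ k := Nat.one_lt_pow hk hq
    omega

theorem padic_prod {ℓ : ℕ} [hl : Fact ℓ.Prime] (hodd : ℓ ≠ 2) {q : ℕ} (hq : 1 < q) (hlq : ℓ ∣ q - 1) (ds : List ℕ)
    (hds : ∀ k ∈ ds, k ≠ 0) :
    padicValNat ℓ (ds.map fun k => ∑ j ∈ Finset.range k, q ^ j).prod = padicValNat ℓ ds.prod ∧
      (ds.map fun k => ∑ j ∈ Finset.range k, q ^ j).prod ≠ 0 ∧ ds.prod ≠ 0 := by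
  induction ds with
  | nil => simp
  | cons k ds ih =>
    obtain ⟨h1, h2, h3⟩ := ih (fun a ha => hds a (List.mem_cons_of_mem _ ha))
    have hk : k ≠ 0 := hds k List.mem_cons_self
    have h4 : ∑ j ∈ Finset.range k, q ^ j ≠ 0 := by
      have h5 : q ^ 0 ≤ ∑ j ∈ Finset.range k, q ^ j :=
        Finset.single_le_sum (f := fun j => q ^ j) (fun _ _ => Nat.zero_le _) (Finset.mem_range.2 (Nat.pos_of_ne_zero hk))
      rw [pow_zero] at h5
      omega
    rw [List.map_cons, List.prod_cons, List.prod_cons]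
    refine ⟨?_, mul_ne_zero h4 h2, mul_ne_zero hk h3⟩
    rw [padicValNat.mul h4 h2, padicValNat.mul hk h3, h1, padic_geom hodd hq hlq hk]

variable {F : Type u} [Field F] [Fintype F] {D : ChevalleyDatum}

theorem not_dvd_index_NG {ℓ : ℕ} [hl : Fact ℓ.Prime] (hodd : ℓ ≠ 2)
    (hlq : ℓ ∣ Fintype.card F - 1) {N : ℕ} (ds : List ℕ) (hds : ∀ k ∈ ds, k ≠ 0)
    (hT : (TG D F).index = Fintype.card F ^ N * (ds.map fun k => ∑ j ∈ Finset.range k, Fintype.card F ^ j).prod)
    (hW : (TG D F).relIndex (NG D F) = ds.prod) (hle : TG D F ≤ NG D F) : ¬ ℓ ∣ (NG D F).index := by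
  have hq : 1 < Fintype.card F := Fintype.one_lt_card
  obtain ⟨h1, h2, h3⟩ := padic_prod hodd hq hlq ds hds
  have h4 := Subgroup.relIndex_mul_index hle
  rw [hT, hW] at h4
  have hi : (NG D F).index ≠ 0 := Subgroup.index_ne_zero_of_finite
  have hqN : Fintype.card F ^ N ≠ 0 := pow_ne_zero _ (by omega)
  have hnd : ¬ ℓ ∣ Fintype.card F ^ N := by
    intro h
    have h5 := hl.out.dvd_of_dvd_pow h
    have h6 : ℓ ∣ Fintype.card F - (Fintype.card F - 1) := Nat.dvd_sub h5 hlq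
    rw [Nat.sub_sub_self hq.le] at h6
    exact hl.out.one_lt.ne' (Nat.dvd_one.1 h6)
  have h5 := congrArg (padicValNat ℓ) h4
  rw [padicValNat.mul h3 hi, padicValNat.mul hqN h2, h1, padicValNat.eq_zero_of_not_dvd hnd] at h5
  intro hd
  have h6 := one_le_padicValNat_of_dvd hi hd
  omega

omit [Fintype F] in
theorem relIndex_NG (hD : InList D) {n : ℕ} {M : CoxeterMatrix (Fin n)} {w : ℕ}
    (h : ∃ φ : ↥(D.monomialSubgroup F) →* M.Group, Function.Surjective φ ∧
      φ.ker = (D.diagonalSubgroup F).subgroupOf (D.monomialSubgroup F))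
    (hw : Nat.card M.Group = w) : (TG D F).relIndex (NG D F) = w := by
  obtain ⟨φ, hφ, hk⟩ := h
  have h1 : (TG D F).relIndex (NG D F) = (D.diagonalSubgroup F).relIndex (D.monomialSubgroup F) :=
    Subgroup.relIndex_subgroupOf (monomial_le_group hD F)
  rw [h1, Subgroup.relIndex, ← hk, Subgroup.index_ker, MonoidHom.range_eq_top.2 hφ, Subgroup.card_top, hw]

end index

section main

theorem alt_perfect {r : ℕ} (hr : 9 ≤ r) : commutator (alternatingGroup (Fin r)) = ⊤ := by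
  have := alt_simple hr
  rcases Subgroup.Normal.eq_bot_or_eq_top (H := commutator (alternatingGroup (Fin r))) inferInstance with h | h
  · exfalso
    obtain ⟨a, b, hab⟩ := alt_nonab hr
    apply hab
    have h1 := Subgroup.commutator_mem_commutator (Subgroup.mem_top a) (Subgroup.mem_top b)
    rw [← _root_.commutator_def, h, Subgroup.mem_bot, commutatorElement_eq_one_iff_mul_comm] at h1
    exact h1
  · exact h

theorem noSmallRep {ℓ r m : ℕ} [hl : Fact ℓ.Prime] (hr : 9 ≤ r) (hm : m < r - 1 - (if ℓ ∣ r then 1 else 0)) :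
    NoSmallRep.{u, 0} (alternatingGroup (Fin r)) ℓ m := by
  intro G _ _ π hπ E _ _ _ ρ hρ
  have : FiniteDimensional (ZMod ℓ) E := inferInstance
  exact hm.trans_le (feit_tits ℓ hr π hπ ρ hρ)

theorem exists_fusEmb {D : ChevalleyDatum} {F : Type u} [Field F] [Fintype F] {ℓ r m : ℕ}
    [hl : Fact ℓ.Prime] (h2 : ℓ ≠ 2) (hr : 9 ≤ r) (hm : m < r - 1 - (if ℓ ∣ r then 1 else 0))
    (hSB : SecBound ↥(D.group F) ℓ m) (hidx : ¬ ℓ ∣ (NG D F).index) {H : Type u} [Group H] [Finite H]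
    (ι : H →* ↥(D.group F)) (hι : Function.Injective ι) (φ : H →* alternatingGroup (Fin r))
    (hφ : Function.Surjective φ) (P : Subgroup ↥(alternatingGroup (Fin r))) (hP : IsPGroup ℓ P) :
    Nonempty (FusEmb D F r P) := by
  classical
  have hs := alt_simple hr
  obtain ⟨H', hH'⟩ := exists_min_cover φ hφ
  have hSB' : SecBound H' ℓ m :=
    secBound_of_injective (ι.comp H'.subtype) (hι.comp H'.subtype_injective) hSB
  obtain ⟨Q⟩ : Nonempty (Sylow ℓ (φ.comp H'.subtype).ker) := inferInstance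
  have hc := hH'.sylow_central (alt_perfect hr) (noSmallRep hr hm) hSB' Q
  have hk := hH'.not_dvd_card_ker (by omega) (alt_perfect hr) h2 Q hc
  obtain ⟨s, hs1, hs2⟩ := exists_fus_hom hH'.surj hk P hP
  let κ : P →* ↥(D.group F) := (ι.comp H'.subtype).comp s
  have hsinj : Function.Injective s := by
    intro x y hxy
    apply Subtype.ext
    rw [← hs1 x, ← hs1 y, hxy]
  have hκ : Function.Injective κ := (hι.comp H'.subtype_injective).comp hsinj
  have hκp : IsPGroup ℓ κ.range := hP.of_surjective κ.rangeRestrict κ.rangeRestrict_surjective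
  obtain ⟨g, hg⟩ := exists_conj_le (NG D F) hidx κ.range hκp
  refine ⟨⟨(MulAut.conj g).toMonoidHom.comp κ, (MulAut.conj g).injective.comp hκ, fun q => hg _ ⟨q, rfl⟩, ?_⟩⟩
  intro a Q' hQ hQ'
  obtain ⟨h, hh⟩ := hs2 a Q' hQ hQ'
  refine ⟨g * ι h * g⁻¹, ?_⟩
  intro q hq
  have h1 := congrArg (ι.comp H'.subtype) (hh q hq)
  rw [map_mul, map_mul, map_inv] at h1
  change g * ι h * g⁻¹ * (g * κ ⟨q, hQ hq⟩ * g⁻¹) * (g * ι h * g⁻¹)⁻¹ = g * κ ⟨a * q * a⁻¹, hQ' q hq⟩ * g⁻¹
  have h2 : κ ⟨a * q * a⁻¹, hQ' q hq⟩ = ι h * κ ⟨q, hQ hq⟩ * (ι h)⁻¹ := h1.symm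
  rw [h2]
  group

theorem inE7 : InList chevE7 := by simp [InList]
theorem inE8 : InList chevE8 := by simp [InList]

theorem exists_fusEmb_E7 {F : Type u} [Field F] [Fintype F] (p : ℕ) [hp : Fact p.Prime] [CharP F p] {l r : ℕ}
    (hl : (l = 7 ∧ r = 14) ∨ (l = 5 ∧ r = 15)) (hpl : p ≠ l) {r' : ℕ} (hr : r ≤ r') (H : Subgroup ↥(chevE7.group F))
    (K : Subgroup ↥H) [K.Normal] (h : Nonempty (↥H ⧸ K ≃* ↥(alternatingGroup (Fin r'))))
    (P : Subgroup ↥(alternatingGroup (Fin r))) (hP : IsPGroup l P) :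
    ∃ (K' : Type u) (_ : Field K') (_ : Fintype K'), l ∣ Fintype.card K' - 1 ∧ Nonempty (FusEmb chevE7 K' r P) := by
  have hlp : l.Prime := by rcases hl with ⟨rfl, -⟩ | ⟨rfl, -⟩ <;> norm_num
  have hl2 : l ≠ 2 := by rcases hl with ⟨rfl, -⟩ | ⟨rfl, -⟩ <;> norm_num
  have : Fact l.Prime := ⟨hlp⟩
  have hm : ¬ p ∣ l := fun hd => hpl ((Nat.prime_dvd_prime_iff_eq hp.out hlp).1 hd)
  obtain ⟨K', iK, iF, f, hK'⟩ := field_ext' F p hm
  obtain ⟨H', ι, φ, hι, hφ⟩ := start chevE7 f hr H K h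
  have hT := index_eq (F := K') inE7 [2, 6, 8, 10, 12, 14, 18] (d := Nat.gcd 2 (Fintype.card K' - 1)) (N := 63)
    (Nat.gcd_pos_of_pos_left _ (by norm_num)).ne' (by
      rw [Cfsg.Agent.S1064.result rfl]
      simp only [List.map_cons, List.map_nil, List.prod_cons, List.prod_nil]
      ring) (Cfsg.Agent.S1035.result (F := K') rfl (chevE7, Nat.gcd 2 (Fintype.card K' - 1)) (by simp))
  have hW : (TG chevE7 K').relIndex (NG chevE7 K') = 2903040 := by
    obtain ⟨φ, h1, h2, -⟩ := Cfsg.Agent.S1039.result (F := K') (chevE7, ⟨7, CoxeterMatrix.E₇⟩) (by simp)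
    exact relIndex_NG inE7 ⟨φ, h1, h2⟩ (Cfsg.Agent.S1093.result (⟨7, CoxeterMatrix.E₇⟩, 2903040) (by simp))
  have hidx : ¬ l ∣ (NG chevE7 K').index :=
    not_dvd_index_NG hl2 hK' [2, 6, 8, 10, 12, 14, 18] (by decide) hT (by rw [hW]; rfl) (torusData inE7 K').le
  have hSB : SecBound ↥(chevE7.group K') l (7 + 1) := by
    refine secBound_of_torus (torusData inE7 K').normal hidx (rankLe_torus inE7 hlp.ne_zero) ?_
    intro k hk
    rw [hW] at hk
    by_contra hlt
    have h3 : l ^ 2 ∣ 2903040 := (pow_dvd_pow l (by omega)).trans hk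
    rcases hl with ⟨rfl, -⟩ | ⟨rfl, -⟩
    · exact absurd h3 (by decide)
    · exact absurd h3 (by decide)
  refine ⟨K', iK, iF, hK', exists_fusEmb hl2 ?_ ?_ hSB hidx ι hι φ hφ P hP⟩
  · rcases hl with ⟨-, rfl⟩ | ⟨-, rfl⟩ <;> norm_num
  · rcases hl with ⟨rfl, rfl⟩ | ⟨rfl, rfl⟩ <;> norm_num

theorem exists_fusEmb_E8 {F : Type u} [Field F] [Fintype F] (p : ℕ) [hp : Fact p.Prime] [CharP F p] {l r : ℕ}
    (hl : l = 3 ∧ r = 18) (hpl : p ≠ l) {r' : ℕ} (hr : r ≤ r') (H : Subgroup ↥(chevE8.group F))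
    (K : Subgroup ↥H) [K.Normal] (h : Nonempty (↥H ⧸ K ≃* ↥(alternatingGroup (Fin r'))))
    (P : Subgroup ↥(alternatingGroup (Fin r))) (hP : IsPGroup l P) :
    ∃ (K' : Type u) (_ : Field K') (_ : Fintype K'), l ∣ Fintype.card K' - 1 ∧ Nonempty (FusEmb chevE8 K' r P) := by
  have hlp : l.Prime := by rcases hl with ⟨rfl, -⟩; norm_num
  have hl2 : l ≠ 2 := by rcases hl with ⟨rfl, -⟩; norm_num
  have : Fact l.Prime := ⟨hlp⟩
  have hm : ¬ p ∣ l := fun hd => hpl ((Nat.prime_dvd_prime_iff_eq hp.out hlp).1 hd)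
  obtain ⟨K', iK, iF, f, hK'⟩ := field_ext' F p hm
  obtain ⟨H', ι, φ, hι, hφ⟩ := start chevE8 f hr H K h
  have hT := index_eq (F := K') inE8 [2, 8, 12, 14, 18, 20, 24, 30] (d := 1) (N := 120) one_ne_zero (by
      rw [one_mul, Cfsg.Agent.S1065.result rfl]
      simp only [List.map_cons, List.map_nil, List.prod_cons, List.prod_nil]
      ring) (Cfsg.Agent.S1035.result (F := K') rfl (chevE8, 1) (by simp))
  have hW : (TG chevE8 K').relIndex (NG chevE8 K') = 696729600 := by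
    obtain ⟨φ, h1, h2, -⟩ := Cfsg.Agent.S1039.result (F := K') (chevE8, ⟨8, CoxeterMatrix.E₈⟩) (by simp)
    exact relIndex_NG inE8 ⟨φ, h1, h2⟩ (Cfsg.Agent.S1093.result (⟨8, CoxeterMatrix.E₈⟩, 696729600) (by simp))
  have hidx : ¬ l ∣ (NG chevE8 K').index :=
    not_dvd_index_NG hl2 hK' [2, 8, 12, 14, 18, 20, 24, 30] (by decide) hT (by rw [hW]; rfl) (torusData inE8 K').le
  have hSB : SecBound ↥(chevE8.group K') l (8 + 5) := by
    refine secBound_of_torus (torusData inE8 K').normal hidx (rankLe_torus inE8 hlp.ne_zero) ?_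
    intro k hk
    rw [hW] at hk
    by_contra hlt
    have h3 : l ^ 6 ∣ 696729600 := (pow_dvd_pow l (by omega)).trans hk
    rcases hl with ⟨rfl, -⟩
    exact absurd h3 (by decide)
  refine ⟨K', iK, iF, hK', exists_fusEmb hl2 ?_ ?_ hSB hidx ι hι φ hφ P hP⟩
  · rcases hl with ⟨-, rfl⟩; norm_num
  · rcases hl with ⟨rfl, rfl⟩; norm_num

end main

end Cfsg.Agent.H189.ExcLift
end
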