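import Cfsg.Agent.H189.Eig
set_option linter.all false

/-!
# Minimal degrees of representations of alternating groups in characteristic two

`low_two`: a nontrivial representation of `A_r`, `r ≥ 9`, over an algebraically closed field of characteristic `2` has
degree at least `r - 1`, or `r - 2` if `r` is even.
-/

set_option autoImplicit false

namespace Cfsg.Agent.H189.AltTwo

open Equiv Equiv.Perm Module Cyc Wt NatMod Emb AltOdd AltOddDim Eig

universe u v w

section gen

variable {α : Type w} [Fintype α] [DecidableEq α]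
variable {k : Type u} {V : Type v} [Field k] [AddCommGroup V] [Module k V]

omit [DecidableEq α] in
theorem exists_extend {m m' : ℕ} (hm : m ≤ m') (hc : m' ≤ Fintype.card α) (g : Fin m → α)
    (hg : Function.Injective g) : ∃ f : Fin m' ↪ α, ∀ i : Fin m, f (Fin.castLE hm i) = g i := by
  classical
  obtain ⟨f0⟩ : Nonempty (Fin m' ↪ α) := Function.Embedding.nonempty_of_card_le (by simpa using hc)
  have hf : Function.Injective (fun i : Fin m => f0 (Fin.castLE hm i)) :=
    fun i j h => Fin.castLE_injective hm (f0.injective h)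
  let e : Set.range (fun i : Fin m => f0 (Fin.castLE hm i)) ≃ Set.range g :=
    (Equiv.ofInjective _ hf).symm.trans (Equiv.ofInjective g hg)
  refine ⟨f0.trans (e.extendSubtype : Perm α).toEmbedding, ?_⟩
  intro i
  have h1 := Equiv.extendSubtype_apply_of_mem e (f0 (Fin.castLE hm i)) (Set.mem_range_self i)
  show (e.extendSubtype : Perm α) (f0 (Fin.castLE hm i)) = g i
  rw [h1]
  show ((Equiv.ofInjective g hg) ((Equiv.ofInjective _ hf).symm ⟨f0 (Fin.castLE hm i), _⟩) : α) = g i
  have h2 : (Equiv.ofInjective (fun i : Fin m => f0 (Fin.castLE hm i)) hf).symm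
      ⟨f0 (Fin.castLE hm i), Set.mem_range_self i⟩ = i :=
    Equiv.ofInjective_symm_apply hf i
  rw [h2, Equiv.ofInjective_apply]

/-- (N3): the commutator space of a 3-cycle is fixed by the 3-cycles disjoint from it -/
def P3 (ρ : alternatingGroup α →* End k V) : Prop :=
  ∀ (f : Fin 6 ↪ α) (u : V),
    ρ (cc (f 3) (f 4) (f 5) (f.injective.ne (by decide)) (f.injective.ne (by decide)))
      (ρ (cc (f 0) (f 1) (f 2) (f.injective.ne (by decide)) (f.injective.ne (by decide))) u - u) =
      ρ (cc (f 0) (f 1) (f 2) (f.injective.ne (by decide)) (f.injective.ne (by decide))) u - u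

theorem full_of_P3 {ρ : alternatingGroup α →* End k V} (h : P3 ρ) {a b c : α} (hab : a ≠ b) (hac : a ≠ c)
    (hbc : b ≠ c) (u : V) : Full (stab ρ (ρ (cc a b c hab hbc) u - u)) {x | x ≠ a ∧ x ≠ b ∧ x ≠ c} := by
  rintro x ⟨x1, x2, x3⟩ y ⟨y1, y2, y3⟩ w ⟨w1, w2, w3⟩ hxy hxw hyw
  have hinj : Function.Injective ![a, b, c, x, y, w] := by
    intro i j hij
    fin_cases i <;> fin_cases j <;> simp_all [eq_comm]
  have := h ⟨_, hinj⟩ u
  exact (mem_stab (σ := cc x y w hxy hyw)).2 this

theorem final3 [FiniteDimensional k V] (p : ℕ) [CharP k p] (h7 : 7 ≤ Fintype.card α)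
    (ρ : alternatingGroup α →* End k V) (h : P3 ρ) {ω : k} (hω : ω ^ 3 = 1) (hω1 : ω ≠ 1)
    {a b c : α} (hab : a ≠ b) (hac : a ≠ c) (hbc : b ≠ c) {v : V} (hv0 : v ≠ 0)
    (hv : ρ (cc a b c hab hbc) v = ω • v) :
    Fintype.card α - 1 - (if p ∣ Fintype.card α then 1 else 0) ≤ finrank k V := by
  obtain ⟨f, hf⟩ := exists_extend (show 3 ≤ 7 by norm_num) h7 ![a, b, c] (by
    intro i j hij
    fin_cases i <;> fin_cases j <;> simp_all [eq_comm])
  have ha : f 0 = a := hf 0
  have hb : f 1 = b := hf 1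
  have hc : f 2 = c := hf 2
  clear hf
  subst ha hb hc
  have ne : ∀ i j : Fin 7, i ≠ j → f i ≠ f j := fun i j h => f.injective.ne h
  obtain ⟨q1, q2, q3, q0⟩ := cube_facts hω hω1
  set t : alternatingGroup (Fin 7) := cc 0 1 2 (by decide) (by decide) with ht
  set g : alternatingGroup (Fin 7) := dt 0 1 3 4 (by decide) (by decide) with hg
  set g' : alternatingGroup (Fin 7) := dt 0 1 5 6 (by decide) (by decide) with hg'
  set d : alternatingGroup (Fin 7) := dt 3 4 5 6 (by decide) (by decide) with hd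
  set S : alternatingGroup (Fin 7) := cc 2 3 4 (by decide) (by decide) with hS
  have r1 : t * g = g * (t * t) := by decide
  have r2 : g * g = 1 := by decide
  have r3 : g' * g' = 1 := by decide
  have r4 : g' = g * d := by decide
  have r5 : S * g' = g' * S := by decide
  let R : alternatingGroup (Fin 7) →* End k V := ρ.comp (emb f)
  have hR : ∀ x y v, R (x * y) v = R x (R y v) := fun x y v => mul_apply' R x y v
  have tv : R t v = ω • v := by
    show ρ (emb f t) v = _
    rw [ht, emb_cc]; exact hv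
  set v' := R g v with hv'
  have tv' : R t v' = ω ^ 2 • v' := by
    rw [hv', ← hR, r1, hR, hR, tv, map_smul, tv, map_smul, map_smul, smul_smul, pow_two]
  have gv' : R g v' = v := by rw [hv', ← hR, r2, map_one, End.one_apply]
  have fullt : ∀ (x : V) (c : k), c ≠ 1 → R t x = c • x → Full (stab ρ x) {y | y ≠ f 0 ∧ y ≠ f 1 ∧ y ≠ f 2} := by
    intro x c hc hx
    have h1 := full_of_P3 h (ne 0 1 (by decide)) (ne 0 2 (by decide)) (ne 1 2 (by decide)) ((c - 1)⁻¹ • x)
    have h2 : ρ (cc (f 0) (f 1) (f 2) (ne 0 1 (by decide)) (ne 1 2 (by decide))) ((c - 1)⁻¹ • x) -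
        (c - 1)⁻¹ • x = x := by
      have h3 : ρ (cc (f 0) (f 1) (f 2) (ne 0 1 (by decide)) (ne 1 2 (by decide))) x = c • x := by
        have : ρ (emb f t) x = c • x := hx
        rwa [ht, emb_cc] at this
      rw [map_smul, h3, ← smul_sub]
      nth_rewrite 2 [← one_smul k x]
      rw [← sub_smul, smul_smul, inv_mul_cancel₀ (sub_ne_zero.2 hc), one_smul]
    rwa [h2] at h1
  have Fv := fullt v ω hω1 tv
  have Fv' := fullt v' (ω ^ 2) q1 tv'
  have memd : ∀ x : V, Full (stab ρ x) {y | y ≠ f 0 ∧ y ≠ f 1 ∧ y ≠ f 2} → R d x = x := by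
    intro x hx
    have h1 : ((emb f d : alternatingGroup α) : Perm α) ∈ stab ρ x := by
      apply mem_of_full hx (mem_alternatingGroup.1 (emb f d).2)
      intro y hy
      refine ⟨?_, ?_, ?_⟩
      · rintro rfl
        exact hy (by rw [emb_apply]; congr 1)
      · rintro rfl
        exact hy (by rw [emb_apply]; congr 1)
      · rintro rfl
        exact hy (by rw [emb_apply]; congr 1)
    exact (mem_stab (ρ := ρ) (σ := emb f d)).1 h1
  have g'v : R g' v = v' := by rw [r4, hR, memd v Fv]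
  have g'v' : R g' v' = v := by rw [← g'v, ← hR, r3, map_one, End.one_apply]
  set e := v - v' with he
  have he0 : e ≠ 0 := by
    intro hcon
    have h3 : v = v' := sub_eq_zero.1 hcon
    rw [← h3, tv] at tv'
    have h4 : (ω ^ 2 - ω) • v = 0 := by rw [sub_smul, ← tv', sub_self]
    rcases smul_eq_zero.1 h4 with h5 | h5
    · exact q2 (sub_eq_zero.1 h5)
    · exact hv0 h5
  have ge : R g e = -e := by rw [he, map_sub, gv', ← hv']; abel
  -- `S` fixes `e`
  have hSe : R S e = e := by
    set x := R S v - v with hx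
    have Fx : Full (stab ρ x) {y | y ≠ f 2 ∧ y ≠ f 3 ∧ y ≠ f 4} := by
      have h1 := full_of_P3 h (ne 2 3 (by decide)) (ne 2 4 (by decide)) (ne 3 4 (by decide)) v
      have h2 : R S v = ρ (cc (f 2) (f 3) (f 4) (ne 2 3 (by decide)) (ne 3 4 (by decide))) v := by
        show ρ (emb f S) v = _
        rw [hS, emb_cc]
      rw [← h2] at h1
      exact h1
    have g'x : R g' x = x := by
      have h1 : ((emb f g' : alternatingGroup α) : Perm α) ∈ stab ρ x := by
        apply mem_of_full Fx (mem_alternatingGroup.1 (emb f g').2)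
        intro y hy
        refine ⟨?_, ?_, ?_⟩
        · rintro rfl
          exact hy (by rw [emb_apply]; congr 1)
        · rintro rfl
          exact hy (by rw [emb_apply]; congr 1)
        · rintro rfl
          exact hy (by rw [emb_apply]; congr 1)
      exact (mem_stab (ρ := ρ) (σ := emb f g')).1 h1
    have Sv : R S v = v + x := by rw [hx]; abel
    rw [he, map_sub, ← g'v, ← hR, r5, hR, Sv, map_add, g'x]
    abel
  have F : Full (stab ρ e) {x | x ≠ f 0 ∧ x ≠ f 1} := by
    have hle : stab ρ v ⊓ stab ρ v' ≤ stab ρ e := by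
      rintro σ ⟨⟨h1, h2⟩, ⟨_, h3⟩⟩
      refine ⟨h1, ?_⟩
      rw [he, map_sub, h2, h3]
    apply full_of_pair (y1 := f 3) (y2 := f 4) (ne 3 4 (by decide))
    rintro x ⟨x0, x1⟩ x3 x4
    by_cases x2 : x = f 2
    · rw [x2, ← c3_cycle (ne 2 3 (by decide)) (ne 2 4 (by decide)) (ne 3 4 (by decide))]
      have h1 : ρ (emb f S) e = e := hSe
      rw [hS, emb_cc] at h1
      exact (mem_stab (σ := cc (f 2) (f 3) (f 4) (ne 2 3 (by decide)) (ne 3 4 (by decide)))).2 h1
    · apply hle
      have m3 : f 3 ∈ {y | y ≠ f 0 ∧ y ≠ f 1 ∧ y ≠ f 2} :=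
        ⟨ne _ _ (by decide), ne _ _ (by decide), ne _ _ (by decide)⟩
      have m4 : f 4 ∈ {y | y ≠ f 0 ∧ y ≠ f 1 ∧ y ≠ f 2} :=
        ⟨ne _ _ (by decide), ne _ _ (by decide), ne _ _ (by decide)⟩
      exact ⟨Fv _ m3 _ m4 x ⟨x0, x1, x2⟩ (ne _ _ (by decide)) (Ne.symm x3) (Ne.symm x4),
        Fv' _ m3 _ m4 x ⟨x0, x1, x2⟩ (ne _ _ (by decide)) (Ne.symm x3) (Ne.symm x4)⟩
  refine nat_bound (ρ := ρ) (e := e) (x1 := f 0) (x2 := f 1) (x3 := f 3) (x4 := f 4) (x5 := f 2) p (by omega) he0
    (ne 0 1 (by decide)) F (ne 3 4 (by decide)) (ne 0 3 (by decide)) (ne 0 4 (by decide))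
    (ne 1 3 (by decide)) (ne 1 4 (by decide)) ?_ (ne 0 2 (by decide)) (ne 1 2 (by decide)) ?_
  · have : ρ (emb f g) e = -e := ge
    rw [hg, emb_dt] at this
    exact this
  · have h3 : e + R t e + R t (R t e) = 0 := by
      rw [he, map_sub, tv, tv', map_sub, map_smul, map_smul, tv, tv', smul_smul, smul_smul]
      have e1 : ω ^ 2 * ω ^ 2 = ω := by
        have : ω ^ 2 * ω ^ 2 = ω ^ 3 * ω := by ring
        rw [this, hω, one_mul]
      have e2 : ω * ω = ω ^ 2 := (pow_two ω).symm
      rw [e1, e2]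
      calc v - v' + (ω • v - ω ^ 2 • v') + (ω ^ 2 • v - ω • v') = (1 + ω + ω ^ 2) • v - (1 + ω + ω ^ 2) • v' := by
            simp only [add_smul, one_smul]; abel
        _ = 0 := by rw [q3, zero_smul, zero_smul, sub_zero]
    have h4 : ∀ v, R t v = ρ ⟨_, c3_mem (ne 0 1 (by decide)) (ne 1 2 (by decide))⟩ v := by
      intro v
      show ρ (emb f t) v = _
      rw [ht, emb_cc]
      rfl
    rw [← h4, ← h4]
    exact h3

theorem inj3 {k : Type*} {x y z : k} (xy : x ≠ y) (xz : x ≠ z) (yz : y ≠ z) : Function.Injective ![x, y, z] := by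
  intro i j hij
  fin_cases i <;> fin_cases j <;> simp_all [eq_comm]

theorem inj4 {k : Type*} {x y z w : k} (xy : x ≠ y) (xz : x ≠ z) (xw : x ≠ w) (yz : y ≠ z) (yw : y ≠ w) (zw : z ≠ w) :
    Function.Injective ![x, y, z, w] := by
  intro i j hij
  fin_cases i <;> fin_cases j <;> simp_all [eq_comm]

/-- the eigenspaces of a 3-cycle for `ω` and `ω²` have the same dimension -/
theorem eig_eq [FiniteDimensional k V] (h5 : 5 ≤ Fintype.card α) (ρ : alternatingGroup α →* End k V) {ω : k}
    (hω : ω ^ 3 = 1) {a b c : α} (hab : a ≠ b) (hac : a ≠ c) (hbc : b ≠ c) :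
    finrank k ((ρ (cc a b c hab hbc)).eigenspace ω) = finrank k ((ρ (cc a b c hab hbc)).eigenspace (ω ^ 2)) := by
  obtain ⟨F, hF⟩ := exists_extend (show 3 ≤ 5 by norm_num) h5 ![a, b, c] (by
    intro i j hij
    fin_cases i <;> fin_cases j <;> simp_all [eq_comm])
  have f0 : F 0 = a := hF 0
  have f1 : F 1 = b := hF 1
  have f2 : F 2 = c := hF 2
  clear hF
  subst f0 f1 f2
  set t : alternatingGroup (Fin 5) := cc 0 1 2 (by decide) (by decide) with ht
  set g : alternatingGroup (Fin 5) := dt 0 1 3 4 (by decide) (by decide) with hg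
  have r1 : t * g = g * (t * t) := by decide
  let R : alternatingGroup (Fin 5) →* End k V := ρ.comp (emb F)
  have hR : ∀ x y v, R (x * y) v = R x (R y v) := fun x y v => mul_apply' R x y v
  have h1 : ρ (cc (F 0) (F 1) (F 2) hab hbc) = R t := by
    show _ = ρ (emb F t)
    rw [ht, emb_cc]
  rw [h1]
  have step : ∀ (c : k), ∀ v ∈ (R t).eigenspace c, R g v ∈ (R t).eigenspace (c ^ 2) := by
    intro c v hv
    rw [End.mem_eigenspace_iff] at hv ⊢
    rw [← hR, r1, hR, hR, hv, map_smul, hv, map_smul, map_smul, smul_smul, pow_two]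
  apply le_antisymm
  · exact finrank_le_of_map R g _ _ (step ω)
  · have h2 := finrank_le_of_map R g _ _ (step (ω ^ 2))
    have e1 : (ω ^ 2) ^ 2 = ω := by
      have : (ω ^ 2) ^ 2 = ω ^ 3 * ω := by ring
      rw [this, hω, one_mul]
    rwa [e1] at h2

theorem two_mul_le [FiniteDimensional k V] (h5 : 5 ≤ Fintype.card α) (ρ : alternatingGroup α →* End k V) {ω : k}
    (hω : ω ^ 3 = 1) (hω1 : ω ≠ 1) {a b c : α} (hab : a ≠ b) (hac : a ≠ c) (hbc : b ≠ c) :
    finrank k ((ρ (cc a b c hab hbc)).eigenspace 1) + 2 * finrank k ((ρ (cc a b c hab hbc)).eigenspace ω)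
      ≤ finrank k V := by
  obtain ⟨q1, q2, q3, q0⟩ := cube_facts hω hω1
  have h1 := eigen_sum_le (ρ (cc a b c hab hbc)) ![1, ω, ω ^ 2] (inj3 hω1.symm q1.symm q2.symm)
  rw [Fin.sum_univ_three] at h1
  have h2 := eig_eq h5 ρ hω hab hac hbc
  have h1' : finrank k ((ρ (cc a b c hab hbc)).eigenspace 1) +
    finrank k ((ρ (cc a b c hab hbc)).eigenspace ω) +
    finrank k ((ρ (cc a b c hab hbc)).eigenspace (ω ^ 2)) ≤ finrank k V := h1
  omega

theorem P3_of [FiniteDimensional k V] (h3 : (3 : k) ≠ 0) {j b : ℕ} (hj : 2 ≤ j) (hc : Fintype.card α = j + 3)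
    (hLow : Low.{u, v} k j b)
    (ρ : alternatingGroup α →* End k V) {ω : k} (hω : ω ^ 3 = 1) (hω1 : ω ≠ 1)
    (hb : ∀ (x y z : α) (hxy : x ≠ y) (_ : x ≠ z) (hyz : y ≠ z),
      finrank k ((ρ (cc x y z hxy hyz)).eigenspace ω) < b) : P3 ρ := by
  intro f6 u
  obtain ⟨q1, q2, q3, q0⟩ := cube_facts hω hω1
  let f : Fin 3 ↪ α := (Fin.castLEEmb (by norm_num : 3 ≤ 6)).trans f6
  obtain ⟨h, hd, hcov⟩ := exists_compl f hc
  set t : alternatingGroup (Fin 3) := cc 0 1 2 (by decide) (by decide) with ht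
  have r1 : t * t * t = 1 := by decide
  let R := ρ.comp (emb f)
  have hR : ∀ x y v, R (x * y) v = R x (R y v) := fun x y v => mul_apply' R x y v
  let S := ρ.comp (emb h)
  have hcomm : ∀ x y v, R x (S y v) = S y (R x v) := by
    intro x y v
    show ρ (emb f x) (ρ (emb h y) v) = ρ (emb h y) (ρ (emb f x) v)
    rw [← mul_apply', emb_comm f h hd, mul_apply']
  have hRt : R t = ρ (cc (f 0) (f 1) (f 2) (f.injective.ne (by decide)) (f.injective.ne (by decide))) := by
    show ρ (emb f t) = _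
    rw [ht, emb_cc]
  have hinv : ∀ c : k, ∀ g, ∀ v ∈ (R t).eigenspace c, S g v ∈ (R t).eigenspace c := by
    intro c g v hv
    rw [End.mem_eigenspace_iff] at hv ⊢
    rw [hcomm, hv, map_smul]
  have h4 := hb (f 0) (f 1) (f 2) (f.injective.ne (by decide)) (f.injective.ne (by decide))
    (f.injective.ne (by decide))
  have h5 := eig_eq (by omega) ρ hω (a := f 0) (b := f 1) (c := f 2) (f.injective.ne (by decide))
    (f.injective.ne (by decide)) (f.injective.ne (by decide))
  rw [← hRt] at h4 h5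
  have t1 := trivial_of_low hLow S _ (hinv ω) h4
  have t2 := trivial_of_low hLow S _ (hinv (ω ^ 2)) (by omega)
  have t3 : ∀ v, R t (R t (R t v)) = v := fun v => by rw [← hR, ← hR, r1, map_one, End.one_apply]
  set x := R t u - u with hx
  have P0 : x + R t x + R t (R t x) = 0 := by
    rw [hx, map_sub, map_sub, t3]; abel
  have P1 : x + ω ^ 2 • R t x + ω • R t (R t x) ∈ (R t).eigenspace ω := by
    rw [End.mem_eigenspace_iff, map_add, map_add, map_smul, map_smul, t3, smul_add, smul_add, smul_smul, smul_smul]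
    have e1 : ω * ω ^ 2 = 1 := by rw [← hω]; ring
    have e2 : ω * ω = ω ^ 2 := (pow_two ω).symm
    rw [e1, e2, one_smul]; abel
  have P2 : x + ω • R t x + ω ^ 2 • R t (R t x) ∈ (R t).eigenspace (ω ^ 2) := by
    rw [End.mem_eigenspace_iff, map_add, map_add, map_smul, map_smul, t3, smul_add, smul_add, smul_smul, smul_smul]
    have e1 : ω ^ 2 * ω = 1 := by rw [← hω]; ring
    have e2 : ω ^ 2 * ω ^ 2 = ω := by
      have : ω ^ 2 * ω ^ 2 = ω ^ 3 * ω := by ring
      rw [this, hω, one_mul]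
    rw [e1, e2, one_smul]; abel
  have hsum : (3 : k) • x = (x + ω ^ 2 • R t x + ω • R t (R t x)) + (x + ω • R t x + ω ^ 2 • R t (R t x)) := by
    have e3 : (3 : k) • x = x + x + x := by
      have : (3 : k) = 1 + 1 + 1 := by norm_num
      rw [this, add_smul, add_smul, one_smul]
    have e4 : (ω + ω ^ 2) • (R t x + R t (R t x)) = x := by
      have e5 : ω + ω ^ 2 = -1 := by
        have : ω + ω ^ 2 = (1 + ω + ω ^ 2) - 1 := by ring
        rw [this, q3]; ring
      have e6 : R t x + R t (R t x) = -x := by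
        rw [← sub_eq_zero, ← P0]; abel
      rw [e5, e6, neg_one_smul, neg_neg]
    rw [e3]
    nth_rewrite 3 [← e4]
    simp only [add_smul, smul_add]
    abel
  have fixed : ∀ g, S g x = x := by
    intro g
    have e1 := t1 g _ P1
    have e2 := t2 g _ P2
    have e3 : (3 : k) • S g x = (3 : k) • x := by
      rw [← map_smul, hsum, map_add, e1, e2]
    exact smul_right_injective V h3 e3
  obtain ⟨σ, hσ⟩ := exists_emb h (cc (f6 3) (f6 4) (f6 5) (f6.injective.ne (by decide)) (f6.injective.ne (by decide)))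
    (by
      intro y hy
      have hr : ∀ i : Fin 6, (∀ x : Fin 3, i ≠ Fin.castLE (by norm_num) x) → ∃ x, h x = f6 i := by
        intro i hi
        apply hcov
        intro x hx
        exact hi x (f6.injective hx).symm
      obtain ⟨x4, h4⟩ := hr 3 (by decide)
      obtain ⟨x5, h5⟩ := hr 4 (by decide)
      obtain ⟨x6, h6⟩ := hr 5 (by decide)
      exact c3_other (by rw [← h4]; exact (hy x4).symm) (by rw [← h5]; exact (hy x5).symm)
        (by rw [← h6]; exact (hy x6).symm))
  rw [← hσ]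
  have := fixed σ
  rw [hx, hRt] at this
  exact this

/-- degree eleven, characteristic two -/
theorem eleven [IsAlgClosed k] [FiniteDimensional k V] (h3 : (3 : k) ≠ 0) (h5 : (5 : k) ≠ 0)
    (R : alternatingGroup (Fin 11) →* End k V)
    (hne : ∃ g, R g ≠ 1) {ω : k} (hω : ω ^ 3 = 1) (hω1 : ω ≠ 1) (hn : finrank k V ≤ 9) :
    finrank k ((R (cc 0 1 2 (by decide) (by decide))).eigenspace ω) < 4 := by
  by_contra hlt
  rw [not_lt] at hlt
  have hinj := rep_injective (by rw [Fintype.card_fin]; omega) R hne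
  have hR : ∀ x y v, R (x * y) v = R x (R y v) := fun x y v => mul_apply' R x y v
  set t : alternatingGroup (Fin 11) := cc 0 1 2 (by decide) (by decide) with ht
  have h1 := two_mul_le (by rw [Fintype.card_fin]; omega) R hω hω1 (a := 0) (b := 1) (c := 2) (by decide)
    (by decide) (by decide)
  have h1' : finrank k ((R t).eigenspace 1) + 2 * finrank k ((R t).eigenspace ω) ≤ finrank k V := h1
  have h2 : finrank k ((R t).eigenspace 1) ≤ 1 := by omega
  -- the 5-cycle
  set s : alternatingGroup (Fin 11) := ⟨swap 6 7 * swap 7 8 * swap 8 9 * swap 9 10, by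
    rw [mem_alternatingGroup]; decide⟩ with hs
  set c : alternatingGroup (Fin 11) := ⟨swap 7 8 * swap 8 10 * swap 10 9 * swap 3 4, by
    rw [mem_alternatingGroup]; decide⟩ with hc
  have s5 : s ^ 5 = 1 := by decide
  have cs : c * s = s ^ 2 * c := by decide
  have cs3 : s * c = c * s ^ 3 := by decide
  have s1 : s ≠ 1 := by decide
  have hs1 : R s ≠ 1 := fun h => s1 (hinj (by rw [h, map_one]))
  have hRs5 : R s ^ 5 = 1 := by rw [← map_pow, s5, map_one]
  obtain ⟨w, hw, ζ, hζ1, hζ⟩ := exists_eig_ne_one (R s) hRs5 (by exact_mod_cast h5) hs1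
  have hζ5 := pow_eq_one_of_eig hRs5 hw hζ
  have hζ0 : ζ ≠ 0 := by rintro rfl; norm_num at hζ5
  -- powers
  have z2 : ζ ^ 2 ≠ 1 := fun h => hζ1 (by
    have : ζ = ζ ^ 5 * (ζ ^ 2)⁻¹ * (ζ ^ 2)⁻¹ := by field_simp
    rw [this, hζ5, h]; norm_num)
  have z3 : ζ ^ 3 ≠ 1 := fun h => z2 (by
    have : ζ ^ 2 = ζ ^ 5 * (ζ ^ 3)⁻¹ := by field_simp
    rw [this, hζ5, h]; norm_num)
  have z4 : ζ ^ 4 ≠ 1 := fun h => hζ1 (by
    have : ζ = ζ ^ 5 * (ζ ^ 4)⁻¹ := by field_simp
    rw [this, hζ5, h]; norm_num)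
  -- `c` moves the eigenspaces
  have step : ∀ (a : k), ∀ v ∈ (R s).eigenspace a, R c v ∈ (R s).eigenspace (a ^ 3) := by
    intro a v hv
    rw [End.mem_eigenspace_iff] at hv ⊢
    have : s ^ 3 = s * (s * s) := by rw [pow_succ', pow_two]
    have h6 : R s (R s v) = (a * a) • v := by rw [hv, map_smul, hv, smul_smul]
    have h7 : R s (R s (R s v)) = (a ^ 3) • v := by
      rw [h6, map_smul, hv, smul_smul]
      congr 1; ring
    rw [← hR, cs3, this, hR, hR, hR, h7, map_smul]
  have e9 : (ζ ^ 3) ^ 3 = ζ ^ 4 := by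
    have : (ζ ^ 3) ^ 3 = ζ ^ 5 * ζ ^ 4 := by ring
    rw [this, hζ5, one_mul]
  have e12 : (ζ ^ 4) ^ 3 = ζ ^ 2 := by
    have : (ζ ^ 4) ^ 3 = ζ ^ 5 * ζ ^ 5 * ζ ^ 2 := by ring
    rw [this, hζ5, one_mul, one_mul]
  have e6 : (ζ ^ 2) ^ 3 = ζ := by
    have : (ζ ^ 2) ^ 3 = ζ ^ 5 * ζ := by ring
    rw [this, hζ5, one_mul]
  have d1 := finrank_le_of_map R c _ _ (step ζ)
  have d3 := finrank_le_of_map R c _ _ (step (ζ ^ 3))
  have d4 := finrank_le_of_map R c _ _ (step (ζ ^ 4))
  have d2 := finrank_le_of_map R c _ _ (step (ζ ^ 2))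
  rw [e9] at d3
  rw [e12] at d4
  rw [e6] at d2
  have hinjz : Function.Injective ![ζ, ζ ^ 3, ζ ^ 4, ζ ^ 2] := by
    have a1 : ζ ≠ ζ ^ 2 := fun h => hζ1 (by
      have : ζ * 1 = ζ * ζ := by rw [mul_one, ← pow_two]; exact h
      exact (mul_left_cancel₀ hζ0 this).symm)
    have a2 : ζ ≠ ζ ^ 3 := fun h => z2 (by
      have : ζ * 1 = ζ * ζ ^ 2 := by rw [mul_one, ← pow_succ']; exact h
      exact (mul_left_cancel₀ hζ0 this).symm)
    have a3 : ζ ≠ ζ ^ 4 := fun h => z3 (by
      have : ζ * 1 = ζ * ζ ^ 3 := by rw [mul_one, ← pow_succ']; exact h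
      exact (mul_left_cancel₀ hζ0 this).symm)
    have a4 : ζ ^ 2 ≠ ζ ^ 3 := fun h => hζ1 (by
      have : ζ ^ 2 * 1 = ζ ^ 2 * ζ := by rw [mul_one, ← pow_succ]; exact h
      exact (mul_left_cancel₀ (pow_ne_zero 2 hζ0) this).symm)
    have a5 : ζ ^ 2 ≠ ζ ^ 4 := fun h => z2 (by
      have : ζ ^ 2 * 1 = ζ ^ 2 * ζ ^ 2 := by rw [mul_one, ← pow_add]; exact h
      exact (mul_left_cancel₀ (pow_ne_zero 2 hζ0) this).symm)
    have a6 : ζ ^ 3 ≠ ζ ^ 4 := fun h => hζ1 (by
      have : ζ ^ 3 * 1 = ζ ^ 3 * ζ := by rw [mul_one, ← pow_succ]; exact h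
      exact (mul_left_cancel₀ (pow_ne_zero 3 hζ0) this).symm)
    exact inj4 a2 a3 a1 a6 a4.symm a5.symm
  have hsum := eigen_sum_le (R s) _ hinjz
  rw [Fin.sum_univ_four] at hsum
  have hsum' : finrank k ((R s).eigenspace ζ) + finrank k ((R s).eigenspace (ζ ^ 3)) +
    finrank k ((R s).eigenspace (ζ ^ 4)) + finrank k ((R s).eigenspace (ζ ^ 2)) ≤ finrank k V := hsum
  -- `A_6` acts trivially on the eigenspaces
  let h6 : Fin 6 ↪ Fin 11 := Fin.castLEEmb (by norm_num)
  let S := R.comp (emb h6)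
  have hcomm : ∀ y v, R s (S y v) = S y (R s v) := by
    intro y v
    show R s (R (emb h6 y) v) = R (emb h6 y) (R s v)
    have hsy : s * emb h6 y = emb h6 y * s := by
      let h5' : Fin 5 ↪ Fin 11 := ⟨fun i => ⟨i.1 + 6, by omega⟩, fun a b h => by
        have := congrArg Fin.val h
        simp only [add_left_inj] at this
        exact Fin.ext this⟩
      have e1 : s = emb h5' ⟨swap 0 1 * swap 1 2 * swap 2 3 * swap 3 4, by rw [mem_alternatingGroup]; decide⟩ := by
        apply Subtype.ext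
        rw [coe_emb]
        show _ = embP h5' (swap 0 1 * swap 1 2 * swap 2 3 * swap 3 4)
        rw [map_mul, map_mul, map_mul, embP_swap, embP_swap, embP_swap, embP_swap]
        rfl
      rw [e1]
      exact emb_comm h5' h6 (fun x y h => by
        have h7 := congrArg Fin.val h
        have h8 : x.1 + 6 = y.1 := h7
        omega) _ _
    rw [← hR, hsy, hR]
  have hinv : ∀ c : k, ∀ g, ∀ v ∈ (R s).eigenspace c, S g v ∈ (R s).eigenspace c := by
    intro c g v hv
    rw [End.mem_eigenspace_iff] at hv ⊢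
    rw [hcomm, hv, map_smul]
  have htS : ∀ v, R t v = S (cc 0 1 2 (by decide) (by decide)) v := by
    intro v
    show _ = R (emb h6 _) v
    rw [emb_cc]
    rfl
  have hmem : ∀ (a : k), finrank k ((R s).eigenspace a) ≤ 2 → ∀ v ∈ (R s).eigenspace a, v ∈ (R t).eigenspace 1 := by
    intro a ha v hv
    rw [End.mem_eigenspace_iff, one_smul, htS]
    exact trivial_of_low (low_six h3) S _ (hinv a) (by omega) _ v hv
  -- four independent vectors in the fixed space of `t`
  have w0 : w ∈ (R s).eigenspace ζ := End.mem_eigenspace_iff.2 hζ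
  have w1 := step _ _ w0
  have w2 := step _ _ w1
  rw [e9] at w2
  have w3 := step _ _ w2
  rw [e12] at w3
  have m0 := hmem _ (by omega) _ w0
  have m1 := hmem _ (by omega) _ w1
  have m2 := hmem _ (by omega) _ w2
  have m3 := hmem _ (by omega) _ w3
  have hli : LinearIndependent k ![w, R c w, R c (R c w), R c (R c (R c w))] := by
    refine linearIndependent_of_wt (κ := Unit) (fun _ => R s) _ (fun i _ => ![ζ, ζ ^ 3, ζ ^ 4, ζ ^ 2] i) ?_ ?_ ?_
    · intro i j hij
      exact hinjz (congrFun hij ())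
    · intro i
      fin_cases i
      · exact hw
      · exact ne_zero R c hw
      · exact ne_zero R c (ne_zero R c hw)
      · exact ne_zero R c (ne_zero R c (ne_zero R c hw))
    · intro i _
      fin_cases i
      · exact End.mem_eigenspace_iff.1 w0
      · exact End.mem_eigenspace_iff.1 w1
      · exact End.mem_eigenspace_iff.1 w2
      · exact End.mem_eigenspace_iff.1 w3
  have hrange : ∀ i, ![w, R c w, R c (R c w), R c (R c (R c w))] i ∈ (R t).eigenspace 1 := by
    intro i
    fin_cases i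
    · exact m0
    · exact m1
    · exact m2
    · exact m3
  have hli' : LinearIndependent k (fun i => (⟨_, hrange i⟩ : (R t).eigenspace 1)) :=
    LinearIndependent.of_comp ((R t).eigenspace 1).subtype hli
  have := hli'.fintype_card_le_finrank
  rw [Fintype.card_fin] at this
  omega

theorem exists_omega [IsAlgClosed k] (h3 : (3 : k) ≠ 0) : ∃ ω : k, ω ^ 3 = 1 ∧ ω ≠ 1 := by
  obtain ⟨ω, hω⟩ := IsAlgClosed.exists_root (Polynomial.X ^ 2 + Polynomial.X + 1 : Polynomial k) (by
    have : (Polynomial.X ^ 2 + Polynomial.X + 1 : Polynomial k).natDegree = 2 := by compute_degree!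
    rw [Polynomial.degree_eq_natDegree (by intro h; rw [h] at this; simp at this), this]
    norm_num)
  have h1 : ω ^ 2 + ω + 1 = 0 := by simpa [Polynomial.IsRoot] using hω
  refine ⟨ω, ?_, ?_⟩
  · have : ω ^ 3 = (ω - 1) * (ω ^ 2 + ω + 1) + 1 := by ring
    rw [this, h1, mul_zero, zero_add]
  · rintro rfl
    apply h3
    rw [← h1]; norm_num

/-- **Wagner's bound in characteristic two.** -/
theorem low_two [IsAlgClosed k] [CharP k 2] (r : ℕ) (hr : 9 ≤ r) :
    Low.{u, v} k r (r - 1 - (if 2 ∣ r then 1 else 0)) := by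
  have h2 : (2 : k) = 0 := by exact_mod_cast CharP.cast_eq_zero k 2
  have h3 : (3 : k) ≠ 0 := by
    have : (3 : k) = 2 + 1 := by norm_num
    rw [this, h2, zero_add]; exact one_ne_zero
  have h5 : (5 : k) ≠ 0 := by
    have : (5 : k) = 2 * 2 + 1 := by norm_num
    rw [this, h2, zero_mul, zero_add]; exact one_ne_zero
  obtain ⟨ω, hω, hω1⟩ := exists_omega h3
  induction r using Nat.strong_induction_on with
  | _ r ih =>
    obtain ⟨j, rfl⟩ : ∃ j, r = j + 3 := ⟨r - 3, by omega⟩
    intro V _ _ _ ρ hne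
    by_contra hlt
    rw [not_le] at hlt
    have hn : finrank k V ≤ j + 1 := by split_ifs at hlt <;> omega
    have hinj := rep_injective (by rw [Fintype.card_fin]; omega) ρ hne
    have hP : P3 ρ := by
      by_cases h8 : j = 8
      · subst h8
        refine P3_of h3 (j := 8) (b := 4) (by omega) (by rw [Fintype.card_fin])
          (low_mono (j := 6) (by omega) (low_six h3) (by omega)) ρ hω hω1 ?_
        intro a b c hab hac hbc
        obtain ⟨F, hF⟩ := exists_extend (α := Fin 11) (show 3 ≤ 11 by norm_num) (by rw [Fintype.card_fin]) ![a, b, c]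
          (by
            intro i j hij
            fin_cases i <;> fin_cases j <;> simp_all [eq_comm])
        have f0 : F 0 = a := hF 0
        have f1 : F 1 = b := hF 1
        have f2 : F 2 = c := hF 2
        clear hF
        subst f0 f1 f2
        have h9 := eleven h3 h5 (ρ.comp (emb F)) (by
          refine ⟨cc 0 1 2 (by decide) (by decide), ?_⟩
          intro h
          have h10 : (cc 0 1 2 (by decide) (by decide) : alternatingGroup (Fin 11)) = 1 := by
            apply emb_injective F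
            apply hinj
            rw [map_one, map_one]
            exact h
          revert h10
          decide) hω hω1 (by omega)
        rw [MonoidHom.comp_apply, emb_cc] at h9
        exact h9
      · obtain ⟨b, hLow, hb⟩ : ∃ b, Low.{u, v} k j b ∧ finrank k V < 2 * b := by
          by_cases h6 : j = 6
          · subst h6
            refine ⟨4, low_six h3, by omega⟩
          by_cases h7 : j = 7
          · subst h7
            refine ⟨4, low_mono (by omega) (low_six h3) (by omega), ?_⟩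
            norm_num at hlt ⊢
            omega
          · refine ⟨_, ih j (by omega) (by omega), ?_⟩
            split_ifs <;> omega
        refine P3_of h3 (by omega) (by rw [Fintype.card_fin]) hLow ρ hω hω1 ?_
        intro x y z hxy hxz hyz
        have := two_mul_le (by rw [Fintype.card_fin]; omega) ρ hω hω1 hxy hxz hyz
        omega
    -- an eigenvector of a 3-cycle
    let f : Fin 3 ↪ Fin (j + 3) := Fin.castLEEmb (by omega)
    have ne : ∀ i l : Fin 3, i ≠ l → f i ≠ f l := fun i l h => f.injective.ne h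
    let t : alternatingGroup (Fin (j + 3)) := cc (f 0) (f 1) (f 2) (ne 0 1 (by decide)) (ne 1 2 (by decide))
    have ht3 : t ^ 3 = 1 := by
      apply Subtype.ext
      exact c3_pow_three (ne 0 1 (by decide)) (ne 0 2 (by decide)) (ne 1 2 (by decide))
    have ht1 : ρ t ≠ 1 := by
      intro h
      have h10 : t = 1 := hinj (by rw [h, map_one])
      exact c3_ne_one (ne 0 1 (by decide)) (ne 0 2 (by decide)) (congrArg Subtype.val h10)
    have hT : ρ t ^ 3 = 1 := by rw [← map_pow, ht3, map_one]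
    obtain ⟨v, hv0, μ, hμ1, hμ⟩ := exists_eig_ne_one (ρ t) hT (by exact_mod_cast h3) ht1
    have := final3 2 (by rw [Fintype.card_fin]; omega) ρ hP (pow_eq_one_of_eig hT hv0 hμ) hμ1
      (ne 0 1 (by decide)) (ne 0 2 (by decide)) (ne 1 2 (by decide)) hv0 hμ
    rw [Fintype.card_fin] at this
    omega

end gen

end Cfsg.Agent.H189.AltTwo
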